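import Mathlib.RingTheory.Kaehler.Basic
import Groth.Agent.Krr.H495.ExtSemi

/-!
# Exterior powers of Kähler differentials as a functor of the algebra

For a homomorphism `φ : A → B` of `k`-algebras, `omS φ : Ω[A⁄k] → Ω[B⁄k]` (semilinear) and
`powS φ j : ⋀^j Ω[A⁄k] → ⋀^j Ω[B⁄k]`.
-/

set_option autoImplicit false

namespace Groth.Agent.Lefpen.H721.OmegaPow

open Groth.Agent.Krr.H495.ExtSemi

variable {k A B C : Type*} [CommRing k] [CommRing A] [CommRing B] [CommRing C]
  [Algebra k A] [Algebra k B] [Algebra k C]

/-- Differentials are functorial in the algebra (semilinear version). -/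
noncomputable def omS (φ : A →ₐ[k] B) : Ω[A⁄k] →ₛₗ[(φ : A →+* B)] Ω[B⁄k] :=
  letI : Algebra A B := φ.toRingHom.toAlgebra
  haveI : IsScalarTower k A B := IsScalarTower.of_algebraMap_eq (fun r => (φ.commutes r).symm)
  { toFun := KaehlerDifferential.map k k A B
    map_add' := map_add _
    map_smul' := fun a x => by
      rw [map_smul, ← algebraMap_smul B a]
      rfl }

@[simp]
theorem omS_D (φ : A →ₐ[k] B) (a : A) :
    omS φ (KaehlerDifferential.D k A a) = KaehlerDifferential.D k B (φ a) := by
  let : Algebra A B := φ.toRingHom.toAlgebra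
  have : IsScalarTower k A B := IsScalarTower.of_algebraMap_eq (fun r => (φ.commutes r).symm)
  exact KaehlerDifferential.map_D k k A B a

omit [Algebra k B] in
/-- Semilinear maps out of `Ω[A⁄k]` agree if they agree on exact differentials. -/
theorem omS_hom_ext {M : Type*} [AddCommGroup M] [Module B M] {ρ : A →+* B}
    {f g : Ω[A⁄k] →ₛₗ[ρ] M}
    (h : ∀ a : A, f (KaehlerDifferential.D k A a) = g (KaehlerDifferential.D k A a)) : f = g := by
  ext x
  have hx : x ∈ Submodule.span A (Set.range (KaehlerDifferential.D k A)) := by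
    rw [KaehlerDifferential.span_range_derivation]; trivial
  induction hx using Submodule.span_induction with
  | mem x hx => obtain ⟨a, rfl⟩ := hx; exact h a
  | zero => rw [map_zero, map_zero]
  | add x y _ _ hx hy => rw [map_add, map_add, hx, hy]
  | smul a x _ hx => rw [LinearMap.map_smulₛₗ, LinearMap.map_smulₛₗ, hx]

theorem omS_omS (φ : A →ₐ[k] B) (ψ : B →ₐ[k] C) (x : Ω[A⁄k]) :
    omS ψ (omS φ x) = omS (ψ.comp φ) x := by
  have hx : x ∈ Submodule.span A (Set.range (KaehlerDifferential.D k A)) := by
    rw [KaehlerDifferential.span_range_derivation]; trivial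
  induction hx using Submodule.span_induction with
  | mem x hx => obtain ⟨a, rfl⟩ := hx; simp
  | zero => simp only [map_zero]
  | add x y _ _ hx hy => rw [map_add, map_add, map_add, hx, hy]
  | smul a x _ hx =>
    rw [LinearMap.map_smulₛₗ, LinearMap.map_smulₛₗ, LinearMap.map_smulₛₗ, hx]
    rfl

theorem omS_id (x : Ω[A⁄k]) : omS (AlgHom.id k A) x = x := by
  have hx : x ∈ Submodule.span A (Set.range (KaehlerDifferential.D k A)) := by
    rw [KaehlerDifferential.span_range_derivation]; trivial
  induction hx using Submodule.span_induction with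
  | mem x hx => obtain ⟨a, rfl⟩ := hx; exact omS_D _ a
  | zero => simp only [map_zero]
  | add x y _ _ hx hy => rw [map_add, hx, hy]
  | smul a x _ hx =>
    rw [LinearMap.map_smulₛₗ, hx]
    rfl

/-- `⋀^j Ω` is spanned by the `d a_1 ∧ … ∧ d a_j`. -/
theorem span_D (k A : Type*) [CommRing k] [CommRing A] [Algebra k A] (j : ℕ) :
    Submodule.span A (Set.range fun a : Fin j → A =>
      exteriorPower.ιMulti A j (fun l => KaehlerDifferential.D k A (a l))) = ⊤ := by
  rw [eq_top_iff, ← exteriorPower.ιMulti_span, Submodule.span_le]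
  rintro _ ⟨m, rfl⟩
  -- replace the `m l` one after the other
  have key : ∀ (s : Finset (Fin j)) (m : Fin j → Ω[A⁄k])
      (_ : ∀ l, l ∉ s → m l ∈ Set.range (KaehlerDifferential.D k A)),
      exteriorPower.ιMulti A j m ∈ Submodule.span A (Set.range fun a : Fin j → A =>
        exteriorPower.ιMulti A j (fun l => KaehlerDifferential.D k A (a l))) := by
    intro s
    induction s using Finset.induction_on with
    | empty =>
      intro m hm
      choose a ha using fun l => hm l (Finset.notMem_empty l)
      refine Submodule.subset_span ⟨a, ?_⟩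
      simp only [ha]
    | insert l₀ s hl₀ ih =>
      intro m hm
      have hx : m l₀ ∈ Submodule.span A (Set.range (KaehlerDifferential.D k A)) := by
        rw [KaehlerDifferential.span_range_derivation]; trivial
      have hgen : ∀ x ∈ Submodule.span A (Set.range (KaehlerDifferential.D k A)),
          exteriorPower.ιMulti A j (Function.update m l₀ x) ∈
            Submodule.span A (Set.range fun a : Fin j → A =>
              exteriorPower.ιMulti A j (fun l => KaehlerDifferential.D k A (a l))) := by
        intro x hx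
        induction hx using Submodule.span_induction with
        | mem x hx' =>
          refine ih _ fun l hl => ?_
          by_cases h : l = l₀
          · subst h; rw [Function.update_self]; exact hx'
          · rw [Function.update_of_ne h]
            exact hm l (by simp [h, hl])
        | zero =>
          rw [AlternatingMap.map_update_zero]
          exact zero_mem _
        | add x y _ _ hx hy =>
          rw [AlternatingMap.map_update_add]
          exact add_mem hx hy
        | smul a x _ hx =>
          rw [AlternatingMap.map_update_smul]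
          exact Submodule.smul_mem _ a hx
      have := hgen _ hx
      rwa [Function.update_eq_self] at this
  exact key Finset.univ m (fun l hl => absurd (Finset.mem_univ l) hl)

/-- The map on `⋀^j Ω` induced by a homomorphism of algebras. -/
noncomputable def powS (φ : A →ₐ[k] B) (j : ℕ) :
    ⋀[A]^j Ω[A⁄k] →ₛₗ[(φ : A →+* B)] ⋀[B]^j Ω[B⁄k] := extS j (omS φ)

@[simp]
theorem powS_D (φ : A →ₐ[k] B) (j : ℕ) (a : Fin j → A) :
    powS φ j (exteriorPower.ιMulti A j (fun l => KaehlerDifferential.D k A (a l))) =
      exteriorPower.ιMulti B j (fun l => KaehlerDifferential.D k B (φ (a l))) := by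
  rw [powS, extS_ιMulti]
  simp only [omS_D]

/-- Additive maps out of `⋀^j Ω` agree if they agree on `b₀ d b_1 ∧ … ∧ d b_j`. -/
theorem add_hom_ext {M : Type*} [AddCommGroup M] {j : ℕ} {f g : ↥(⋀[A]^j Ω[A⁄k]) →+ M}
    (h : ∀ (b : A) (a : Fin j → A),
      f (b • exteriorPower.ιMulti A j (fun l => KaehlerDifferential.D k A (a l))) =
      g (b • exteriorPower.ιMulti A j (fun l => KaehlerDifferential.D k A (a l)))) : f = g := by
  ext x
  have hx : x ∈ Submodule.span A (Set.range fun a : Fin j → A =>
      exteriorPower.ιMulti A j (fun l => KaehlerDifferential.D k A (a l))) := by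
    rw [span_D]; trivial
  have hc : ∀ c : A, f (c • x) = g (c • x) := by
    induction hx using Submodule.span_induction with
    | mem x hx => obtain ⟨a, rfl⟩ := hx; exact fun c => h c a
    | zero => intro c; rw [smul_zero, map_zero, map_zero]
    | add x y _ _ hx hy => intro c; rw [smul_add, map_add, map_add, hx, hy]
    | smul a x _ hx => intro c; rw [smul_smul, hx]
  have := hc 1
  rwa [one_smul] at this

theorem powS_powS (φ : A →ₐ[k] B) (ψ : B →ₐ[k] C) (j : ℕ) (x : ⋀[A]^j Ω[A⁄k]) :
    powS ψ j (powS φ j x) = powS (ψ.comp φ) j x := by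
  have : ((powS ψ j).toAddMonoidHom.comp (powS φ j).toAddMonoidHom) =
      (powS (ψ.comp φ) j).toAddMonoidHom := by
    apply add_hom_ext
    intro b a
    change powS ψ j (powS φ j _) = powS (ψ.comp φ) j _
    rw [LinearMap.map_smulₛₗ, LinearMap.map_smulₛₗ, LinearMap.map_smulₛₗ, powS_D, powS_D, powS_D]
    rfl
  exact DFunLike.congr_fun this x

theorem powS_id (j : ℕ) (x : ⋀[A]^j Ω[A⁄k]) : powS (AlgHom.id k A) j x = x := by
  have : (powS (AlgHom.id k A) j).toAddMonoidHom = AddMonoidHom.id _ := by
    apply add_hom_ext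
    intro b a
    change powS (AlgHom.id k A) j _ = _
    rw [LinearMap.map_smulₛₗ, powS_D]
    rfl
  exact DFunLike.congr_fun this x

theorem powS_congr {φ ψ : A →ₐ[k] B} (h : ∀ a, φ a = ψ a) (j : ℕ) (x : ⋀[A]^j Ω[A⁄k]) :
    powS φ j x = powS ψ j x := by
  obtain rfl : φ = ψ := AlgHom.ext h
  rfl

/-- `powS` as a `k`-linear map. -/
noncomputable def powL (φ : A →ₐ[k] B) (j : ℕ) : ⋀[A]^j Ω[A⁄k] →ₗ[k] ⋀[B]^j Ω[B⁄k] where
  toFun := powS φ j
  map_add' := map_add _
  map_smul' c x := by
    rw [← algebraMap_smul A c x, LinearMap.map_smulₛₗ, RingHom.id_apply, ← algebraMap_smul B c]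
    congr 1
    exact φ.commutes c

theorem powL_apply (φ : A →ₐ[k] B) (j : ℕ) (x : ⋀[A]^j Ω[A⁄k]) : powL φ j x = powS φ j x := rfl

/-- An isomorphism of algebras induces an isomorphism on `⋀^j Ω`. -/
noncomputable def powE (e : A ≃ₐ[k] B) (j : ℕ) : ⋀[A]^j Ω[A⁄k] ≃ₗ[k] ⋀[B]^j Ω[B⁄k] :=
  { powL (e : A →ₐ[k] B) j with
    invFun := powL (e.symm : B →ₐ[k] A) j
    left_inv := fun x => by
      change powS _ j (powS _ j x) = x
      rw [powS_powS]
      exact (powS_congr (ψ := AlgHom.id k A) (fun a => by simp) j x).trans (powS_id j x)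
    right_inv := fun x => by
      change powS _ j (powS _ j x) = x
      rw [powS_powS]
      exact (powS_congr (ψ := AlgHom.id k B) (fun a => by simp) j x).trans (powS_id j x) }

theorem powE_apply (e : A ≃ₐ[k] B) (j : ℕ) (x : ⋀[A]^j Ω[A⁄k]) :
    powE e j x = powS (e : A →ₐ[k] B) j x := rfl

end Groth.Agent.Lefpen.H721.OmegaPow
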