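import Groth.Agent.CurvesB.OmegaInv
import Groth.Agent.Sga67.LocBasisOps
import Groth.Agent.Lefpen.H721.OmegaPow

/-!
# Sections of exterior powers of the sheaf of differentials over affine opens

`f : X ⟶ Spec A`.  `SA f W` is `Γ(X, W)` as an `A`-algebra.  If `L` is a `j`-th exterior power of
`Omega.sheaf f`, then over affine opens `Γ(L, W) ≃ ⋀^j Ω[SA f W⁄A]`, compatibly with restriction.
-/

set_option autoImplicit false
universe u
open CategoryTheory CategoryTheory.Limits AlgebraicGeometry Opposite TopologicalSpace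

namespace Groth.Agent.Lefpen.H721.OmegaSec

open Groth.Agent.CurvesB.OmegaDer Groth.Agent.CurvesB.OmegaStalkDict
open Groth.Agent.Lefpen.H721.OmegaPow Groth.Agent.Sga67.Sec Groth.Agent.Sga67.LocBasis
open Groth.Agent.Krr.H495.ExtSemi

variable {A : Type u} [CommRing A] {X : Scheme.{u}} (f : X ⟶ Spec (CommRingCat.of A))

/-- Functions on `W`, as an algebra over the base ring through `f`. -/
def SA (_ : X ⟶ Spec (CommRingCat.of A)) (W : X.Opens) : Type u := Γ(X, W)

noncomputable instance (W : X.Opens) : CommRing (SA f W) := inferInstanceAs (CommRing Γ(X, W))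

noncomputable instance (W : X.Opens) : Algebra A (SA f W) := (secHom f W).toAlgebra

theorem algebraMap_SA (W : X.Opens) (a : A) : algebraMap A (SA f W) a = secHom f W a := rfl

/-- Restriction of functions, as a homomorphism of algebras. -/
noncomputable def resA {W W' : X.Opens} (h : W' ≤ W) : SA f W →ₐ[A] SA f W' :=
  { (X.presheaf.map (homOfLE h).op).hom with
    commutes' := fun a => res_secHom f h a }

theorem resA_apply {W W' : X.Opens} (h : W' ≤ W) (s : Γ(X, W)) :
    resA f h s = X.presheaf.map (homOfLE h).op s := rfl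

theorem resA_resA {U V W : X.Opens} (h : V ≤ U) (h' : W ≤ V) (s : SA f U) :
    resA f h' (resA f h s) = resA f (h'.trans h) s := resO_resO h h' s

noncomputable instance modSA (M : X.Modules) (W : X.Opens) : Module (SA f W) Γ(M, W) :=
  inferInstanceAs (Module Γ(X, W) Γ(M, W))

section Der

variable [QuasiCompact (pullback.diagonal f)]

/-- The sections of the sheaf of differentials over an affine open. -/
theorem exists_omega_equiv {W : X.Opens} (hW : IsAffineOpen W) :
    ∃ e : Ω[SA f W⁄A] ≃ₗ[SA f W] Γ(Omega.sheaf f, W),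
      ∀ s : Γ(X, W), e (KaehlerDifferential.D A (SA f W) s) = d f W s := by
  let := secAlg f W
  let := secMod f (Omega.sheaf f) W
  have := secTower f (Omega.sheaf f) W
  refine ⟨LinearEquiv.ofBijective (secDer f W).liftKaehlerDifferential (bijective_secDer f hW), fun s => ?_⟩
  exact Derivation.liftKaehlerDifferential_comp_D (secDer f W) s

/-- An equivalence `e : M ≃ₗ[R] N` on exterior powers. -/
theorem exists_ext_congr {R : Type*} [CommRing R] {M N : Type*} [AddCommGroup M] [Module R M]
    [AddCommGroup N] [Module R N] (e : M ≃ₗ[R] N) (j : ℕ) :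
    ∃ E : ⋀[R]^j M ≃ₗ[R] ⋀[R]^j N, ∀ m : Fin j → M,
      E (exteriorPower.ιMulti R j m) = exteriorPower.ιMulti R j (fun l => e (m l)) := by
  refine ⟨LinearEquiv.ofLinearMap (exteriorPower.map j e.toLinearMap)
    (exteriorPower.map j e.symm.toLinearMap) ?_ ?_, fun m => exteriorPower.map_apply_ιMulti _ _⟩
  · rw [← exteriorPower.map_comp]
    simp
  · rw [← exteriorPower.map_comp]
    simp

/-- The family of identifications in `ExtPow.IsExtPow`. -/
abbrev Phi (i : ℕ) (E L : X.Modules) : Type u :=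
  ∀ U : X.affineOpens, (Sec L U.1) ≃ₗ[Γ(X, U.1)] ↥(⋀[Γ(X, U.1)]^i (Sec E U.1))

/-- The compatibility with restriction. -/
abbrev PhiComp {i : ℕ} {E L : X.Modules} (φ : Phi i E L) : Prop :=
  ∀ (U V : X.affineOpens) (h : V.1 ≤ U.1) (e : Fin i → Sec E U.1),
      res L h ((φ U).symm (exteriorPower.ιMulti _ i e)) =
        (φ V).symm (exteriorPower.ιMulti _ i (fun j => res E h (e j)))

/-- `⋀^j Ω[SA f W⁄A] ≃ Γ(L, W)`. -/
theorem exists_ext_equiv {j : ℕ} {L : X.Modules} (φ : Phi j (Omega.sheaf f) L) (W : X.affineOpens) :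
    ∃ e : ⋀[SA f W.1]^j Ω[SA f W.1⁄A] ≃ₗ[SA f W.1] Γ(L, W.1),
      ∀ s : Fin j → Γ(X, W.1),
        e (exteriorPower.ιMulti (SA f W.1) j (fun l => KaehlerDifferential.D A (SA f W.1) (s l))) =
          (φ W).symm (exteriorPower.ιMulti Γ(X, W.1) j (fun l => (d f W.1 (s l) : Sec (Omega.sheaf f) W.1))) := by
  obtain ⟨δ, hδ⟩ := exists_omega_equiv f W.2
  obtain ⟨E, hE⟩ := exists_ext_congr δ j
  let φ' : Γ(L, W.1) ≃ₗ[SA f W.1] ⋀[SA f W.1]^j Γ(Omega.sheaf f, W.1) := φ W
  refine ⟨E.trans φ'.symm, fun s => ?_⟩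
  rw [LinearEquiv.trans_apply, hE]
  simp only [hδ]
  rfl

/-- **Main statement**: if `L` is a `j`-th exterior power of `Omega.sheaf f`, then over affine opens
`Γ(L, W) ≃ ⋀^j Ω[Γ(X, W)⁄A]`, compatibly with restriction. -/
theorem exists_equiv_family {j : ℕ} {L : X.Modules} (hL : ExtPow.IsExtPow j (Omega.sheaf f) L) :
    ∃ e : ∀ W : X.affineOpens, ⋀[SA f W.1]^j Ω[SA f W.1⁄A] ≃ₗ[SA f W.1] Γ(L, W.1),
      ∀ (W W' : X.affineOpens) (h : W'.1 ≤ W.1) (x : ⋀[SA f W.1]^j Ω[SA f W.1⁄A]),
        L.presheaf.map (homOfLE h).op (e W x) = e W' (powS (resA f h) j x) := by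
  obtain ⟨φ, hφ⟩ := hL
  choose e he using exists_ext_equiv f φ
  refine ⟨e, fun W W' h x => ?_⟩
  have key : ((L.presheaf.map (homOfLE h).op).hom.comp (e W).toLinearMap.toAddMonoidHom) =
      ((e W').toLinearMap.toAddMonoidHom.comp (powS (resA f h) j).toAddMonoidHom) := by
    apply add_hom_ext
    intro b a
    change res L h (e W (b • _)) = e W' (powS (resA f h) j (b • _))
    rw [map_smul, LinearMap.map_smulₛₗ, map_smul, powS_D, he]
    have h1 := he W' (fun l => X.presheaf.map (homOfLE h).op (a l))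
    have h2 : (e W') (exteriorPower.ιMulti (SA f W'.1) j
        (fun l => KaehlerDifferential.D A (SA f W'.1) ((resA f h) (a l)))) = _ := h1
    rw [h2]
    have h3 := res_smul L h b ((φ W).symm (exteriorPower.ιMulti Γ(X, W.1) j
      (fun l => (d f W.1 (a l) : Sec (Omega.sheaf f) W.1))))
    refine h3.trans ?_
    have hφ' : PhiComp φ := hφ
    have h4 : ∀ l, res (Omega.sheaf f) h (d f W.1 (a l)) =
        d f W'.1 (X.presheaf.map (homOfLE h).op (a l)) := fun l => d_res f h (a l)
    have h5 := hφ' W W' h (fun l => (d f W.1 (a l) : Sec (Omega.sheaf f) W.1))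
    simp only [h4] at h5
    exact congrArg (fun y : Sec L W'.1 => resO X h b • y) h5
  exact DFunLike.congr_fun key x

end Der

/-- For `X` smooth and separated over a field, the sheaf of differentials is finite locally free. -/
theorem isFinLocFree_omega {k : Type u} [Field k] {X : Scheme.{u}} (f : X ⟶ Spec (CommRingCat.of k))
    [Smooth f] [IsSeparated f] : FlatMod.IsFinLocFree (Omega.sheaf f) := by
  have : IsLocallyNoetherian X := LocallyOfFiniteType.isLocallyNoetherian f
  exact fun x => Groth.Agent.Divis.StalkMod.exists_free_nhd (Groth.Agent.CurvesB.OmegaInv.isCoh_omega f) x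
    (Groth.Agent.CurvesB.OmegaInv.free_stalk_omega f x)

/-- Exterior powers of the sheaf of differentials are finite locally free. -/
theorem isFinLocFree_of_isExtPow_omega {k : Type u} [Field k] {X : Scheme.{u}}
    (f : X ⟶ Spec (CommRingCat.of k)) [Smooth f] [IsSeparated f] {j : ℕ} {L : X.Modules}
    (hL : ExtPow.IsExtPow j (Omega.sheaf f) L) : FlatMod.IsFinLocFree L :=
  isFinLocFree_of_isExtPow (isFinLocFree_omega f) hL

end Groth.Agent.Lefpen.H721.OmegaSec
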