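import Groth.Agent.Lefpen.H721.LaurDer

/-!
# Dehomogenization in the Laurent model

For `i₀ ∈ I`: `rA : AI k I → AI k I`, `X_i ↦ X_i / X_{i₀}`, the induced `r : F G I → B0 G I` onto the elements of degree `0`.
-/

set_option autoImplicit false
set_option linter.unusedSectionVars false
universe u

open MvPolynomial

namespace Groth.Agent.Lefpen.H721.Dehom

open Groth.Agent.CohqA.LaurentLoc Groth.Agent.CohqA.LaurentCech Groth.Agent.Lefpen.H722.Ring
open Groth.Agent.Lefpen.H721.LaurDer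

variable {k : Type u} [CommRing k] {ι : Type} [Fintype ι]

theorem sum_dlt (i₀ : ι) : ∑ i, dlt i₀ i = 1 := by
  rw [dlt, sum_castExp, Finsupp.degree_single, Nat.cast_one]

/-- `e ↦ e - |e| δ_{i₀}`. -/
noncomputable def shift (i₀ : ι) : (ι → ℤ) →+ (ι → ℤ) where
  toFun e := e - (∑ i, e i) • dlt i₀
  map_zero' := by simp
  map_add' e e' := by
    simp only [Pi.add_apply, Finset.sum_add_distrib, add_smul]
    abel

theorem shift_apply (i₀ : ι) (e : ι → ℤ) : shift i₀ e = e - (∑ i, e i) • dlt i₀ := rfl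

theorem sum_shift (i₀ : ι) (e : ι → ℤ) : ∑ i, shift i₀ e i = 0 := by
  rw [shift_apply]
  simp only [Pi.sub_apply, Pi.smul_apply, smul_eq_mul]
  rw [Finset.sum_sub_distrib, ← Finset.mul_sum, sum_dlt, mul_one, sub_self]

/-- `X_i ↦ X_i / X_{i₀}` on Laurent polynomials. -/
noncomputable def dh (i₀ : ι) : LR ι k →ₐ[k] LR ι k := AddMonoidAlgebra.mapDomainAlgHom k k (shift i₀)

theorem dh_single (i₀ : ι) (e : ι → ℤ) (c : k) :
    dh i₀ (AddMonoidAlgebra.single e c) = AddMonoidAlgebra.single (shift i₀ e) c :=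
  AddMonoidAlgebra.mapDomain_single

variable {I : Set ι} {i₀ : ι}

theorem dh_mem (hi : i₀ ∈ I) (x : AI k I) : dh i₀ x.1 ∈ AI k I := by
  induction x using AI_ind with
  | add x y hx hy =>
    change dh i₀ (x.1 + y.1) ∈ _
    rw [map_add]
    exact Subalgebra.add_mem _ hx hy
  | single e he c =>
    rw [dh_single]
    refine single_mem (fun i hi' => ?_) c
    have h1 : i₀ ≠ i := fun h => hi' (h ▸ hi)
    rw [shift_apply, Pi.sub_apply, Pi.smul_apply, dlt_apply, if_neg h1, smul_zero, sub_zero]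
    exact he i hi'

/-- Dehomogenization. -/
noncomputable def rA (hi : i₀ ∈ I) : AI k I →ₐ[k] AI k I :=
  ((dh i₀).comp (AI k I).val).codRestrict (AI k I) (dh_mem hi)

theorem rA_val (hi : i₀ ∈ I) (x : AI k I) : (rA hi x).1 = dh i₀ x.1 := rfl

theorem rA_mem (hi : i₀ ∈ I) (x : AI k I) : rA hi x ∈ grA k I 0 := by
  induction x using AI_ind with
  | add x y hx hy => rw [map_add]; exact Submodule.add_mem _ hx hy
  | single e he c =>
    classical
    rw [mem_grA_iff]
    intro e' he'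
    rw [rA_val, dh_single, AddMonoidAlgebra.coeff_single, Finsupp.single_apply] at he'
    split_ifs at he' with h
    · rw [← h, sum_shift]
    · exact absurd rfl he'

/-- `X_{i₀} ^ n`. -/
noncomputable def uA (hi : i₀ ∈ I) (n : ℤ) : AI k I :=
  ⟨AddMonoidAlgebra.single (n • dlt i₀) 1, single_mem (fun i hi' => by
    have h1 : i₀ ≠ i := fun h => hi' (h ▸ hi)
    rw [Pi.smul_apply, dlt_apply, if_neg h1, smul_zero]) 1⟩

theorem uA_mem (hi : i₀ ∈ I) (n : ℤ) : (uA hi n : AI k I) ∈ grA k I n := by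
  classical
  rw [mem_grA_iff]
  intro e he
  change (AddMonoidAlgebra.single (n • dlt i₀) (1 : k) : LR ι k).coeff e ≠ 0 at he
  rw [AddMonoidAlgebra.coeff_single, Finsupp.single_apply] at he
  split_ifs at he with h
  · rw [← h]
    simp only [Pi.smul_apply, smul_eq_mul]
    rw [← Finset.mul_sum, sum_dlt, mul_one]
  · exact absurd rfl he

theorem uA_mul (hi : i₀ ∈ I) (m n : ℤ) : (uA hi m : AI k I) * uA hi n = uA hi (m + n) := by
  apply Subtype.ext
  change AddMonoidAlgebra.single _ _ * AddMonoidAlgebra.single _ _ = AddMonoidAlgebra.single _ _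
  rw [AddMonoidAlgebra.single_mul_single, mul_one, add_smul]

theorem uA_zero (hi : i₀ ∈ I) : (uA hi 0 : AI k I) = 1 := by
  apply Subtype.ext
  change AddMonoidAlgebra.single _ _ = 1
  rw [zero_smul]
  rfl

theorem uA_one (hi : i₀ ∈ I) : (uA hi 1 : AI k I) = ofP I (X i₀) := by
  apply Subtype.ext
  change AddMonoidAlgebra.single _ _ = toLaurent (monomial (Finsupp.single i₀ 1) 1)
  rw [one_smul, toLaurent_monomial]
  rfl

theorem rA_uA (hi : i₀ ∈ I) (n : ℤ) : rA hi (uA hi n : AI k I) = 1 := by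
  apply Subtype.ext
  change dh i₀ (AddMonoidAlgebra.single _ _) = 1
  rw [dh_single]
  have : shift i₀ (n • dlt i₀) = 0 := by
    rw [shift_apply]
    simp only [Pi.smul_apply, smul_eq_mul]
    rw [← Finset.mul_sum, sum_dlt, mul_one, sub_self]
  rw [this]
  rfl

/-- Induction for homogeneous elements. -/
theorem grA_ind {m : ℤ} {C : AI k I → Prop} (add : ∀ x y, C x → C y → C (x + y))
    (single : ∀ (e : ι → ℤ) (he : ∀ i, i ∉ I → 0 ≤ e i) (c : k) (_ : c = 0 ∨ ∑ i, e i = m),
      C ⟨AddMonoidAlgebra.single e c, single_mem he c⟩)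
    (x : AI k I) (hx : x ∈ grA k I m) : C x := by
  classical
  have key : ∀ (s : Finset (ι → ℤ)) (x : AI k I), x ∈ grA k I m → x.1.coeff.support ⊆ s → C x := by
    intro s
    induction s using Finset.induction_on with
    | empty =>
      intro x _ hx
      have h0 : x = ⟨AddMonoidAlgebra.single 0 0, single_mem (fun _ _ => le_rfl) 0⟩ := by
        apply Subtype.ext
        change x.1 = AddMonoidAlgebra.single 0 0
        apply AddMonoidAlgebra.coeff_injective
        rw [AddMonoidAlgebra.single_zero, AddMonoidAlgebra.coeff_zero]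
        exact Finsupp.support_eq_empty.1 (Finset.subset_empty.1 hx)
      rw [h0]
      exact single 0 (fun _ _ => le_rfl) 0 (Or.inl rfl)
    | insert m' s hm ih =>
      intro x hgr hx
      by_cases hxm : x.1.coeff m' = 0
      · refine ih x hgr fun m'' hm'' => ?_
        rcases Finset.mem_insert.1 (hx hm'') with rfl | h
        · exact absurd hxm (Finsupp.mem_support_iff.1 hm'')
        · exact h
      · have h0 : ∀ e, (x.1.erase m').coeff e ≠ 0 → x.1.coeff e ≠ 0 := by
          intro e he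
          rw [AddMonoidAlgebra.coeff_erase, Finsupp.erase_apply] at he
          split_ifs at he with h
          · exact absurd rfl he
          · exact he
        have h1 : x.1.erase m' ∈ AI k I := fun m'' hm'' i hi => x.2 m'' (h0 _ hm'') i hi
        have h2 : x = ⟨AddMonoidAlgebra.single m' (x.1.coeff m'), single_mem (x.2 m' hxm) _⟩ +
            ⟨x.1.erase m', h1⟩ :=
          Subtype.ext (AddMonoidAlgebra.single_add_erase m' x.1).symm
        rw [h2]
        refine add _ _ (single m' (x.2 m' hxm) _ (Or.inr (mem_grA_iff.1 hgr m' hxm))) (ih _ ?_ ?_)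
        · rw [mem_grA_iff]
          exact fun e he => mem_grA_iff.1 hgr e (h0 e he)
        · change (x.1.erase m').coeff.support ⊆ s
          rw [AddMonoidAlgebra.coeff_erase, Finsupp.support_erase]
          intro m'' hm''
          rw [Finset.mem_erase] at hm''
          exact (Finset.mem_insert.1 (hx hm''.2)).resolve_left hm''.1
  exact key _ x hx (Finset.Subset.refl _)

theorem rA_mul_uA (hi : i₀ ∈ I) {m : ℤ} {x : AI k I} (hx : x ∈ grA k I m) : rA hi x * uA hi m = x := by
  refine grA_ind (C := fun x => rA hi x * uA hi m = x) (fun x y hx hy => ?_) (fun e he c hc => ?_) x hx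
  · rw [map_add, add_mul, hx, hy]
  · apply Subtype.ext
    change dh i₀ (AddMonoidAlgebra.single e c) * AddMonoidAlgebra.single (m • dlt i₀) 1 =
      AddMonoidAlgebra.single e c
    rcases hc with rfl | hc
    · rw [AddMonoidAlgebra.single_zero, map_zero, zero_mul]
    · rw [dh_single, AddMonoidAlgebra.single_mul_single, mul_one, shift_apply, hc, sub_add_cancel]

theorem rA_eq_self (hi : i₀ ∈ I) {x : AI k I} (hx : x ∈ grA k I 0) : rA hi x = x := by
  have := rA_mul_uA hi hx
  rwa [uA_zero, mul_one] at this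

/-! ### The quotient -/

variable {d : ℕ} (G : Fin d → MvPolynomial ι k) {a : Fin d → ℕ} (hG : ∀ j, (G j).IsHomogeneous (a j))

/-- The subalgebra of elements of degree `0`. -/
noncomputable def B0 (I : Set ι) : Subalgebra k (F G I) where
  carrier := {x | x ∈ gr G I 0}
  zero_mem' := (gr G I 0).zero_mem
  add_mem' {x y} hx hy := (gr G I 0).add_mem hx hy
  algebraMap_mem' c := by
    have h1 : algebraMap k (F G I) c = c • 1 := Algebra.algebraMap_eq_smul_one c
    rw [h1]
    exact (gr G I 0).smul_mem c (one_mem_gr G I)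
  mul_mem' {x y} hx hy := by
    have := mul_mem_gr G hx hy
    rwa [add_zero] at this

theorem mem_B0 {I : Set ι} {x : F G I} : x ∈ B0 G I ↔ x ∈ gr G I 0 := Iff.rfl

/-- Restriction. -/
noncomputable def ρ0 {I J : Set ι} (h : I ⊆ J) : B0 G I →ₐ[k] B0 G J :=
  ((ρ G h).comp (B0 G I).val).codRestrict (B0 G J) (fun x => ρ_mem_gr G h x.2)

theorem ρ0_val {I J : Set ι} (h : I ⊆ J) (x : B0 G I) : (ρ0 G h x).1 = ρ G h x.1 := rfl

include hG in
theorem rA_JI (hi : i₀ ∈ I) : JI G I ≤ (JI G I).comap (rA hi) := by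
  rw [JI, Ideal.span_le]
  rintro _ ⟨j, rfl⟩
  change rA hi (ofP I (G j)) ∈ Ideal.span (Set.range fun j => ofP I (G j))
  have h1 : rA hi (ofP I (G j)) = ofP I (G j) * uA hi (-(a j : ℤ)) := by
    conv_rhs => rw [← rA_mul_uA hi (ofP_mem (I := I) (hG j)), mul_assoc, uA_mul, add_neg_cancel, uA_zero, mul_one]
  rw [h1]
  exact Ideal.mul_mem_right _ _ (Ideal.subset_span ⟨j, rfl⟩)

/-- Dehomogenization on the quotient. -/
noncomputable def rF (hi : i₀ ∈ I) : F G I →ₐ[k] F G I :=
  Ideal.quotientMapₐ (JI G I) (rA hi) (rA_JI G hG hi)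

theorem rF_mk (hi : i₀ ∈ I) (x : AI k I) : rF G hG hi (mk G I x) = mk G I (rA hi x) := rfl

theorem rF_mem (hi : i₀ ∈ I) (x : F G I) : rF G hG hi x ∈ gr G I 0 := by
  obtain ⟨x, rfl⟩ := mk_surjective G I x
  rw [rF_mk]
  exact mk_mem_gr G (rA_mem hi x)

/-- Dehomogenization. -/
noncomputable def r (hi : i₀ ∈ I) : F G I →ₐ[k] B0 G I :=
  (rF G hG hi).codRestrict (B0 G I) (rF_mem G hG hi)

theorem r_mk (hi : i₀ ∈ I) (x : AI k I) : (r G hG hi (mk G I x)).1 = mk G I (rA hi x) := rfl

theorem r_val (hi : i₀ ∈ I) (b : B0 G I) : r G hG hi b.1 = b := by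
  obtain ⟨b, hb⟩ := b
  obtain ⟨x, hx, rfl⟩ := exists_of_mem_gr G hb
  apply Subtype.ext
  rw [r_mk, rA_eq_self hi hx]

/-- `T_{i₀} ^ n`. -/
noncomputable def uF (hi : i₀ ∈ I) (n : ℤ) : F G I := mk G I (uA hi n)

theorem uF_mem (hi : i₀ ∈ I) (n : ℤ) : uF G hi n ∈ gr G I n := mk_mem_gr G (uA_mem hi n)

theorem r_mul_uF (hi : i₀ ∈ I) {m : ℤ} {x : F G I} (hx : x ∈ gr G I m) : (r G hG hi x).1 * uF G hi m = x := by
  obtain ⟨x, hx', rfl⟩ := exists_of_mem_gr G hx
  rw [r_mk, uF, ← map_mul, rA_mul_uA hi hx']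

theorem r_uF (hi : i₀ ∈ I) (n : ℤ) : r G hG hi (uF G hi n) = 1 := by
  apply Subtype.ext
  rw [uF, r_mk, rA_uA, map_one]
  rfl

theorem uF_mul (hi : i₀ ∈ I) (m n : ℤ) : uF G hi m * uF G hi n = uF G hi (m + n) := by
  rw [uF, uF, ← map_mul, uA_mul, uF]

theorem uF_one (hi : i₀ ∈ I) : uF G hi 1 = T G I i₀ := by rw [uF, uA_one, T]

theorem r_injOn (hi : i₀ ∈ I) {m : ℤ} {x y : F G I} (hx : x ∈ gr G I m) (hy : y ∈ gr G I m)
    (h : r G hG hi x = r G hG hi y) : x = y := by
  rw [← r_mul_uF G hG hi hx, h, r_mul_uF G hG hi hy]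

end Groth.Agent.Lefpen.H721.Dehom
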