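import Groth.Agent.Lefpen.H722.Forms
import Mathlib.LinearAlgebra.ExteriorPower.Basic
import Mathlib.LinearAlgebra.CliffordAlgebra.Fold
import Mathlib.Data.Finset.Sort

/-!
# Coordinate forms and the exterior algebra

`ev : ExteriorAlgebra B (ι → B) →ₗ[B] (Finset ι → B)`, `y ↦ (action of y by exterior multiplications) vac`, is bijective with
inverse `gam`.  For a family `v` of covectors, `W v e = D (v (e-1)) ∘ … ∘ D (v 0)`, and for a family `Φ` of vectors
`V Φ e = K (Φ 0) ∘ … ∘ K (Φ (e-1))`.
-/

set_option autoImplicit false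
universe u

open Finset
open Groth.Agent.Ega3B.Cube (sgn sgn_mul_self sgn_insert_self sgn_insert_of_lt sgn_insert_of_gt)

namespace Groth.Agent.Lefpen.H721.FormAlg

open Groth.Agent.Lefpen.H722.Forms

variable {ι : Type} [LinearOrder ι] [Fintype ι] {B : Type u} [CommRing B]

/-! ### The basis of forms -/

/-- The basis form attached to `s`. -/
def dl (s : Finset ι) : Finset ι → B := Pi.single s 1

/-- The form `1`. -/
def vac : Finset ι → B := dl ∅

omit [Fintype ι] in
theorem ex_dl_of_notMem {i : ι} {s : Finset ι} (h : i ∉ s) :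
    ex i (dl s : Finset ι → B) = sgn i s • dl (insert i s) := by
  funext t
  rw [Pi.smul_apply]
  by_cases hi : i ∈ t
  · rw [ex_apply_of_mem hi]
    by_cases ht : t = insert i s
    · subst ht
      rw [erase_insert h, dl, dl, Pi.single_eq_same, Pi.single_eq_same, sgn_insert_self]
    · rw [dl, dl, Pi.single_eq_of_ne, Pi.single_eq_of_ne ht, smul_zero, smul_zero]
      intro h1
      apply ht
      rw [← h1, insert_erase hi]
  · rw [ex_apply_of_notMem hi, dl, Pi.single_eq_of_ne, smul_zero]
    rintro rfl
    exact hi (mem_insert_self _ _)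

omit [Fintype ι] in
theorem ex_dl_of_mem {i : ι} {s : Finset ι} (h : i ∈ s) : ex i (dl s : Finset ι → B) = 0 := by
  funext t
  by_cases hi : i ∈ t
  · rw [ex_apply_of_mem hi, dl, Pi.single_eq_of_ne, smul_zero]
    · rfl
    · rintro rfl
      exact notMem_erase _ _ h
  · rw [ex_apply_of_notMem hi]
    rfl

theorem eq_sum_dl (x : Finset ι → B) : x = ∑ s, x s • dl s := by
  funext t
  rw [Finset.sum_apply, Finset.sum_eq_single t]
  · rw [Pi.smul_apply, dl, Pi.single_eq_same, smul_eq_mul, mul_one]
  · intro s _ hs
    rw [Pi.smul_apply, dl, Pi.single_eq_of_ne (Ne.symm hs), smul_zero]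
  · intro h
    exact absurd (mem_univ _) h

theorem K_vac (w : ι → B) : K w (vac : Finset ι → B) = 0 := by
  rw [K_apply]
  refine Finset.sum_eq_zero fun i _ => ?_
  have : co i (vac : Finset ι → B) = 0 := by
    funext s
    by_cases h : i ∈ s
    · rw [co_apply_of_mem h]; rfl
    · rw [co_apply_of_notMem h, vac, dl, Pi.single_eq_of_ne (insert_ne_empty _ _), smul_zero]
      rfl
  rw [this, smul_zero]

theorem D_single (i : ι) (x : Finset ι → B) : D (Pi.single i 1) x = ex i x := by
  rw [D_apply, Finset.sum_eq_single i]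
  · rw [Pi.single_eq_same, one_smul]
  · intro j _ hj
    rw [Pi.single_eq_of_ne hj, zero_smul]
  · intro h
    exact absurd (mem_univ _) h

theorem D_add (v v' : ι → B) (x : Finset ι → B) : D (v + v') x = D v x + D v' x := by
  simp only [D_apply, Pi.add_apply, add_smul, Finset.sum_add_distrib]

theorem D_smul (c : B) (v : ι → B) (x : Finset ι → B) : D (c • v) x = c • D v x := by
  simp only [D_apply, Pi.smul_apply, smul_eq_mul, mul_smul, Finset.smul_sum]

theorem D_sub (v v' : ι → B) (x : Finset ι → B) : D (v - v') x = D v x - D v' x := by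
  simp only [D_apply, Pi.sub_apply, sub_smul, Finset.sum_sub_distrib]

theorem D_zero (x : Finset ι → B) : D (0 : ι → B) x = 0 := by
  simp only [D_apply, Pi.zero_apply, zero_smul, Finset.sum_const_zero]

/-- `D` as a linear map. -/
def DL : (ι → B) →ₗ[B] Module.End B (Finset ι → B) where
  toFun := D
  map_add' v v' := LinearMap.ext (D_add v v')
  map_smul' c v := LinearMap.ext (D_smul c v)

/-! ### Ordered products -/

section Products

variable {E : Type*} [Ring E] (x : ι → E)

/-- The ordered product of the `x i`, `i ∈ s`. -/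
def P (s : Finset ι) : E := ((s.sort (· ≤ ·)).map x).prod

omit [Fintype ι] in
theorem P_empty : P x ∅ = 1 := by simp [P]

omit [Fintype ι] in
theorem P_insert_min {i : ι} {s : Finset ι} (h : ∀ j ∈ s, i < j) : P x (insert i s) = x i * P x s := by
  rw [P, Finset.sort_insert (r := (· ≤ ·)) (fun j hj => (h j hj).le) (fun hi => lt_irrefl _ (h i hi))]
  simp [P]

omit [Fintype ι] in
theorem mul_P (hsq : ∀ i, x i * x i = 0) (hanti : ∀ i j, x i * x j = - (x j * x i)) (i : ι) (s : Finset ι) :
    x i * P x s = if i ∈ s then 0 else sgn i s • P x (insert i s) := by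
  induction s using Finset.induction_on_min with
  | empty =>
    rw [if_neg (notMem_empty i)]
    have : sgn i (∅ : Finset ι) = 1 := by simp [sgn]
    rw [this, one_smul, P_insert_min x (by simp)]
  | insert a s ha ih =>
    have hnot : a ∉ s := fun h => lt_irrefl _ (ha a h)
    rw [P_insert_min x ha]
    rcases lt_trichotomy i a with hia | rfl | hai
    · have h1 : i ∉ insert a s := by
        rw [mem_insert, not_or]
        exact ⟨hia.ne, fun h => lt_asymm hia (ha i h)⟩
      rw [if_neg h1, P_insert_min x (fun j hj => by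
        rcases mem_insert.1 hj with rfl | hj
        · exact hia
        · exact hia.trans (ha j hj)), P_insert_min x ha]
      have h2 : sgn i (insert a s) = 1 := by
        have : (insert a s).filter (· < i) = ∅ := by
          rw [filter_eq_empty_iff]
          intro j hj
          rcases mem_insert.1 hj with rfl | hj
          · exact not_lt.2 hia.le
          · exact not_lt.2 (hia.trans (ha j hj)).le
        rw [sgn, this]
        simp
      rw [h2, one_smul]
    · rw [if_pos (mem_insert_self _ _), ← mul_assoc, hsq, zero_mul]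
    · rw [← mul_assoc, hanti i a, neg_mul, mul_assoc, ih]
      by_cases his : i ∈ s
      · rw [if_pos his, if_pos (mem_insert_of_mem his), mul_zero, neg_zero]
      · have h1 : i ∉ insert a s := by
          rw [mem_insert, not_or]
          exact ⟨hai.ne', his⟩
        rw [if_neg his, if_neg h1, insert_comm, P_insert_min x (i := a) (s := insert i s) (fun j hj => by
          rcases mem_insert.1 hj with rfl | hj
          · exact hai
          · exact ha j hj), sgn_insert_of_lt hai hnot, mul_zsmul_assoc', neg_smul]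
  where
  mul_zsmul_assoc' {a b : E} {n : ℤ} : a * (n • b) = n • (a * b) := mul_smul_comm n a b

end Products

/-! ### The exterior algebra of `ι → B` -/

/-- The action of the exterior algebra on forms. -/
noncomputable def DA : ExteriorAlgebra B (ι → B) →ₐ[B] Module.End B (Finset ι → B) :=
  ExteriorAlgebra.lift B ⟨DL, fun v => LinearMap.ext (D_D_self v)⟩

theorem DA_ι (w : ι → B) (x : Finset ι → B) : DA (ExteriorAlgebra.ι B w) x = D w x := by
  rw [DA, ExteriorAlgebra.lift_ι_apply]
  rfl

/-- The form attached to an element of the exterior algebra. -/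
noncomputable def ev : ExteriorAlgebra B (ι → B) →ₗ[B] (Finset ι → B) where
  toFun y := DA y vac
  map_add' x y := by rw [map_add]; rfl
  map_smul' c x := by rw [map_smul]; rfl

theorem ev_one : ev (1 : ExteriorAlgebra B (ι → B)) = vac := by
  change DA 1 vac = vac
  rw [map_one]
  rfl

theorem ev_ι_mul (w : ι → B) (y : ExteriorAlgebra B (ι → B)) :
    ev (ExteriorAlgebra.ι B w * y) = D w (ev y) := by
  change DA (ExteriorAlgebra.ι B w * y) vac = D w (DA y vac)
  rw [map_mul, Module.End.mul_apply, DA_ι]

/-- Left induction in the exterior algebra. -/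
theorem left_ind {M : Type*} [AddCommGroup M] [Module B M] {C : ExteriorAlgebra B M → Prop}
    (one : C 1) (smul : ∀ (r : B) x, C x → C (r • x)) (add : ∀ x y, C x → C y → C (x + y))
    (mul : ∀ (m : M) x, C x → C (ExteriorAlgebra.ι B m * x)) (x : ExteriorAlgebra B M) : C x := by
  induction x using CliffordAlgebra.left_induction with
  | algebraMap r =>
    rw [Algebra.algebraMap_eq_smul_one]
    exact smul r 1 one
  | add x y hx hy => exact add x y hx hy
  | ι_mul x m hx => exact mul m x hx

section Gam

variable {M : Type*} [AddCommGroup M] [Module B M] (u : (ι → B) →ₗ[B] M)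

/-- From forms to the exterior algebra, along a linear map `u`. -/
noncomputable def gam : (Finset ι → B) →ₗ[B] ExteriorAlgebra B M where
  toFun x := ∑ s, x s • P (fun i => ExteriorAlgebra.ι B (u (Pi.single i 1))) s
  map_add' x y := by simp only [Pi.add_apply, add_smul, Finset.sum_add_distrib]
  map_smul' c x := by simp only [Pi.smul_apply, smul_eq_mul, mul_smul, Finset.smul_sum, RingHom.id_apply]

theorem gam_apply (x : Finset ι → B) :
    gam u x = ∑ s, x s • P (fun i => ExteriorAlgebra.ι B (u (Pi.single i 1))) s := rfl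

theorem gam_dl (s : Finset ι) : gam u (dl s) = P (fun i => ExteriorAlgebra.ι B (u (Pi.single i 1))) s := by
  rw [gam_apply, Finset.sum_eq_single s]
  · rw [dl, Pi.single_eq_same, one_smul]
  · intro t _ ht
    rw [dl, Pi.single_eq_of_ne ht, zero_smul]
  · intro h
    exact absurd (mem_univ _) h

theorem gam_vac : gam u vac = 1 := by rw [vac, gam_dl, P_empty]

theorem gam_ex (i : ι) (x : Finset ι → B) :
    gam u (ex i x) = ExteriorAlgebra.ι B (u (Pi.single i 1)) * gam u x := by
  rw [eq_sum_dl x, map_sum, map_sum, map_sum, Finset.mul_sum]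
  refine Finset.sum_congr rfl fun s _ => ?_
  rw [map_smul, map_smul, map_smul, mul_smul_comm]
  congr 1
  rw [gam_dl]
  have h := mul_P (fun i => ExteriorAlgebra.ι B (u (Pi.single i (1 : B))))
    (fun i => ExteriorAlgebra.ι_sq_zero _)
    (fun i j => eq_neg_of_add_eq_zero_left (ExteriorAlgebra.ι_add_mul_swap _ _)) i s
  refine Eq.trans ?_ h.symm
  by_cases hi : i ∈ s
  · rw [ex_dl_of_mem hi, if_pos hi, map_zero]
  · rw [ex_dl_of_notMem hi, if_neg hi, map_zsmul, gam_dl]

theorem gam_D (w : ι → B) (x : Finset ι → B) :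
    gam u (D w x) = ExteriorAlgebra.ι B (u w) * gam u x := by
  have hw : w = ∑ i, w i • (Pi.single i (1 : B) : ι → B) := by
    funext j
    rw [Finset.sum_apply, Finset.sum_eq_single j]
    · simp
    · intro b _ hb
      simp [Pi.single_eq_of_ne (Ne.symm hb)]
    · intro h
      exact absurd (mem_univ _) h
  rw [D_apply, map_sum]
  conv_rhs => rw [hw, map_sum, map_sum, Finset.sum_mul]
  refine Finset.sum_congr rfl fun i _ => ?_
  rw [map_smul, map_smul, map_smul, gam_ex, smul_mul_assoc]

theorem gam_ev (y : ExteriorAlgebra B (ι → B)) : gam u (ev y) = ExteriorAlgebra.map u y := by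
  induction y using left_ind with
  | one => rw [ev_one, gam_vac, map_one]
  | smul r x hx => rw [map_smul, map_smul, map_smul, hx]
  | add x y hx hy => rw [map_add, map_add, map_add, hx, hy]
  | mul m x hx => rw [ev_ι_mul, gam_D, hx, map_mul, ExteriorAlgebra.map_apply_ι]

end Gam

theorem ev_P (s : Finset ι) :
    ev (P (fun i => ExteriorAlgebra.ι B (Pi.single i (1 : B) : ι → B)) s) = dl s := by
  induction s using Finset.induction_on_min with
  | empty => rw [P_empty, ev_one]; rfl
  | insert a s ha ih =>
    have hnot : a ∉ s := fun h => lt_irrefl _ (ha a h)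
    rw [P_insert_min _ ha, ev_ι_mul, ih, D_single, ex_dl_of_notMem hnot]
    have h2 : sgn a s = 1 := by
      have : s.filter (· < a) = ∅ := by
        rw [filter_eq_empty_iff]
        intro j hj
        exact not_lt.2 (ha j hj).le
      rw [sgn, this]
      simp
    rw [h2, one_smul]

theorem ev_gam_id (x : Finset ι → B) : ev (gam LinearMap.id x) = x := by
  conv_rhs => rw [eq_sum_dl x]
  conv_lhs => rw [eq_sum_dl x]
  rw [map_sum, map_sum]
  refine Finset.sum_congr rfl fun s _ => ?_
  rw [map_smul, map_smul, gam_dl]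
  exact congrArg (x s • ·) (ev_P s)

theorem gam_eq_map {M : Type*} [AddCommGroup M] [Module B M] (u : (ι → B) →ₗ[B] M) (x : Finset ι → B) :
    gam u x = ExteriorAlgebra.map u (gam LinearMap.id x) := by
  conv_lhs => rw [← ev_gam_id x]
  rw [gam_ev]

/-! ### Form degrees -/

/-- Forms of form degree `q`. -/
def Fq (ι : Type) (B : Type u) [CommRing B] (q : ℕ) : Submodule B (Finset ι → B) where
  carrier := {x | ∀ s : Finset ι, s.card ≠ q → x s = 0}
  zero_mem' := fun _ _ => rfl
  add_mem' := fun {x y} hx hy s hs => by rw [Pi.add_apply, hx s hs, hy s hs, add_zero]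
  smul_mem' := fun c x hx s hs => by rw [Pi.smul_apply, hx s hs, smul_zero]

omit [Fintype ι] in
theorem P_mem {M : Type*} [AddCommGroup M] [Module B M] (m : ι → M) (s : Finset ι) :
    P (fun i => ExteriorAlgebra.ι B (m i)) s ∈ ⋀[B]^(s.card) M := by
  have hgen : ∀ l : List ι, (l.map (fun i => ExteriorAlgebra.ι B (m i))).prod ∈ ⋀[B]^(l.length) M := by
    intro l
    induction l with
    | nil =>
      rw [List.map_nil, List.prod_nil, List.length_nil, ExteriorAlgebra.exteriorPower, pow_zero]
      exact Submodule.one_le.1 le_rfl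
    | cons a l ih =>
      rw [List.map_cons, List.prod_cons, List.length_cons, ExteriorAlgebra.exteriorPower, pow_succ']
      exact Submodule.mul_mem_mul ⟨m a, rfl⟩ ih
  have := hgen (s.sort (· ≤ ·))
  rwa [Finset.length_sort] at this

theorem gam_mem {M : Type*} [AddCommGroup M] [Module B M] (u : (ι → B) →ₗ[B] M) {q : ℕ}
    {x : Finset ι → B} (hx : x ∈ Fq ι B q) : gam u x ∈ ⋀[B]^q M := by
  rw [gam_apply]
  refine Submodule.sum_mem _ fun s _ => ?_
  by_cases hs : s.card = q
  · subst hs
    exact Submodule.smul_mem _ _ (P_mem _ s)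
  · rw [hx s hs, zero_smul]
    exact Submodule.zero_mem _

omit [Fintype ι] in
theorem ex_mem_Fq (i : ι) {q : ℕ} {x : Finset ι → B} (hx : x ∈ Fq ι B q) : ex i x ∈ Fq ι B (q + 1) := by
  intro s hs
  by_cases h : i ∈ s
  · rw [ex_apply_of_mem h, hx, smul_zero]
    rw [card_erase_of_mem h]
    have := card_pos.2 ⟨i, h⟩
    omega
  · rw [ex_apply_of_notMem h]

omit [Fintype ι] in
theorem co_mem_Fq (i : ι) {q : ℕ} {x : Finset ι → B} (hx : x ∈ Fq ι B (q + 1)) : co i x ∈ Fq ι B q := by
  intro s hs
  by_cases h : i ∈ s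
  · rw [co_apply_of_mem h]
  · rw [co_apply_of_notMem h, hx, smul_zero]
    rw [card_insert_of_notMem h]
    omega

theorem D_mem_Fq (w : ι → B) {q : ℕ} {x : Finset ι → B} (hx : x ∈ Fq ι B q) : D w x ∈ Fq ι B (q + 1) := by
  rw [D_apply]
  exact Submodule.sum_mem _ fun i _ => Submodule.smul_mem _ _ (ex_mem_Fq i hx)

theorem K_mem_Fq (w : ι → B) {q : ℕ} {x : Finset ι → B} (hx : x ∈ Fq ι B (q + 1)) : K w x ∈ Fq ι B q := by
  rw [K_apply]
  exact Submodule.sum_mem _ fun i _ => Submodule.smul_mem _ _ (co_mem_Fq i hx)

omit [Fintype ι] in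
theorem vac_mem : (vac : Finset ι → B) ∈ Fq ι B 0 := by
  intro s hs
  rw [vac, dl, Pi.single_eq_of_ne]
  rintro rfl
  exact hs rfl

theorem ev_mem {q : ℕ} {y : ExteriorAlgebra B (ι → B)} (hy : y ∈ ⋀[B]^q (ι → B)) : ev y ∈ Fq ι B q := by
  have key : ∀ (q : ℕ) (y : ExteriorAlgebra B (ι → B)), y ∈ ⋀[B]^q (ι → B) → ev y ∈ Fq ι B q := by
    intro q
    induction q with
    | zero =>
      intro y hy
      rw [ExteriorAlgebra.exteriorPower, pow_zero, Submodule.mem_one] at hy
      obtain ⟨c, rfl⟩ := hy
      rw [Algebra.algebraMap_eq_smul_one, map_smul, ev_one]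
      exact Submodule.smul_mem _ _ vac_mem
    | succ q ih =>
      intro y hy
      rw [ExteriorAlgebra.exteriorPower, pow_succ'] at hy
      induction hy using Submodule.mul_induction_on' with
      | mem_mul_mem m hm n hn =>
        obtain ⟨w, rfl⟩ := hm
        rw [ev_ι_mul]
        exact D_mem_Fq w (ih n hn)
      | add x _ y _ hx hy =>
        rw [map_add]
        exact Submodule.add_mem _ hx hy
  exact key q y hy

end Groth.Agent.Lefpen.H721.FormAlg
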