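import Groth.Agent.Lefpen.H721.FormAlg
import Groth.Agent.Lefpen.H721.OmegaPow

/-!
# Exterior powers of differentials as coordinate forms

`B` a `k`-algebra with elements `b i` (`i : ι`), `b i₀ = 1`, covectors `v j` and vectors `Φ j` (`j < d`) with `⟨v l, Φ j⟩ = δ`,
`⟨v j, b⟩ = 0`, and a derivation `∂ : B → (ι → B)` (the partial derivatives) such that `Ω[B⁄k]` is presented by the `d (b i)` with
the relations `v j`.  Then `⋀^p Ω[B⁄k]` is identified with the coordinate forms of degree `p + d` killed by the `v j ∧` and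
by the contraction with `b`.
-/

set_option autoImplicit false
universe u

open Finset

namespace Groth.Agent.Lefpen.H721.FormIso

open Groth.Agent.Lefpen.H722.Forms Groth.Agent.Lefpen.H721.FormAlg Groth.Agent.Lefpen.H721.OmegaPow

variable {ι : Type} [LinearOrder ι] [Fintype ι] {B : Type u} [CommRing B]

/-! ### The operators `W` and `V` -/

/-- `W v e = D (v (e-1)) ∘ … ∘ D (v 0)`. -/
def W (v : ℕ → ι → B) : ℕ → (Finset ι → B) →ₗ[B] (Finset ι → B)
  | 0 => LinearMap.id
  | e + 1 => D (v e) ∘ₗ W v e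

/-- `V Φ e = K (Φ 0) ∘ … ∘ K (Φ (e-1))`. -/
def V (Φ : ℕ → ι → B) : ℕ → (Finset ι → B) →ₗ[B] (Finset ι → B)
  | 0 => LinearMap.id
  | e + 1 => V Φ e ∘ₗ K (Φ e)

variable {v Φ : ℕ → ι → B}

theorem W_zero (x : Finset ι → B) : W v 0 x = x := rfl

theorem W_succ (e : ℕ) (x : Finset ι → B) : W v (e + 1) x = D (v e) (W v e x) := rfl

theorem V_zero (x : Finset ι → B) : V Φ 0 x = x := rfl

theorem V_succ (e : ℕ) (x : Finset ι → B) : V Φ (e + 1) x = V Φ e (K (Φ e) x) := rfl

theorem W_D (w : ι → B) (e : ℕ) (x : Finset ι → B) : W v e (D w x) = (-1 : ℤ) ^ e • D w (W v e x) := by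
  induction e with
  | zero => rw [pow_zero, one_smul, W_zero, W_zero]
  | succ e ih =>
    rw [W_succ, ih, map_zsmul, D_eq_neg, W_succ, pow_succ, mul_neg_one, neg_smul, smul_neg]

theorem W_D_v {e j : ℕ} (hj : j < e) (x : Finset ι → B) : W v e (D (v j) x) = 0 := by
  induction e with
  | zero => omega
  | succ e ih =>
    rw [W_succ]
    rcases Nat.lt_succ_iff_lt_or_eq.1 hj with hj | rfl
    · rw [ih hj, map_zero]
    · rw [W_D, map_zsmul, D_D_self, smul_zero]

theorem D_W_v {e j : ℕ} (hj : j < e) (x : Finset ι → B) : D (v j) (W v e x) = 0 := by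
  have h1 := W_D (v := v) (v j) e x
  rw [W_D_v hj] at h1
  have h2 : (-1 : ℤ) ^ e • ((-1 : ℤ) ^ e • D (v j) (W v e x)) = 0 := by rw [← h1, smul_zero]
  rwa [smul_smul, ← mul_pow, neg_one_mul, neg_neg, one_pow, one_smul] at h2

/-- `K w` anticommutes with `W v e` when `w` is orthogonal to `v 0, …, v (e-1)`. -/
theorem K_W (w : ι → B) (e : ℕ) (hw : ∀ j < e, ∑ i, v j i * w i = 0) (x : Finset ι → B) :
    K w (W v e x) = (-1 : ℤ) ^ e • W v e (K w x) := by
  induction e with
  | zero => rw [pow_zero, one_smul, W_zero, W_zero]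
  | succ e ih =>
    rw [W_succ, K_D_eq, hw e (Nat.lt_succ_self e), zero_smul, zero_sub,
      ih (fun j hj => hw j (Nat.lt_succ_of_lt hj)), map_zsmul, W_succ, pow_succ, mul_neg_one, neg_smul]

theorem K_V_of_eq_zero (w : ι → B) (e : ℕ) {x : Finset ι → B} (hx : K w x = 0) : K w (V Φ e x) = 0 := by
  induction e generalizing x with
  | zero => exact hx
  | succ e ih =>
    rw [V_succ]
    apply ih
    have := K_K w (Φ e) x
    rw [hx, map_zero, add_zero] at this
    exact this

theorem K_V_Φ {e j : ℕ} (hj : j < e) (x : Finset ι → B) : K (Φ j) (V Φ e x) = 0 := by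
  induction e generalizing x with
  | zero => omega
  | succ e ih =>
    rw [V_succ]
    rcases Nat.lt_succ_iff_lt_or_eq.1 hj with hj | rfl
    · exact ih hj _
    · exact K_V_of_eq_zero _ _ (K_K_self _ _)

section Dual

variable {d : ℕ} (hΦ : ∀ l j, l < d → j < d → ∑ i, v l i * Φ j i = if l = j then 1 else 0)

include hΦ in
theorem V_W (e : ℕ) (he : e ≤ d) {x : Finset ι → B} (hx : ∀ j < d, K (Φ j) x = 0) :
    V Φ e (W v e x) = x := by
  induction e with
  | zero => rfl
  | succ e ih =>
    have h1 : K (Φ e) (W v e x) = 0 := by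
      rw [K_W (Φ e) e (fun j hj => by rw [hΦ j e (by omega) (by omega), if_neg hj.ne]), hx e (by omega),
        map_zero, smul_zero]
    rw [V_succ, W_succ, K_D_eq, hΦ e e (by omega) (by omega), if_pos rfl, one_smul, h1, map_zero,
      sub_zero, ih (by omega)]

include hΦ in
theorem W_V (e : ℕ) (he : e ≤ d) {x : Finset ι → B} (hx : ∀ j < e, D (v j) x = 0) :
    W v e (V Φ e x) = x := by
  induction e generalizing x with
  | zero => rfl
  | succ e ih =>
    rw [V_succ, W_succ, ih (by omega)]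
    · rw [D_K_eq, hΦ e e (by omega) (by omega), if_pos rfl, one_smul, hx e (Nat.lt_succ_self e),
        map_zero, sub_zero]
    · intro j hj
      rw [D_K_eq, hΦ j e (by omega) (by omega), if_neg hj.ne, zero_smul,
        hx j (Nat.lt_succ_of_lt hj), map_zero, sub_zero]

end Dual

theorem W_mem (e : ℕ) {q : ℕ} {x : Finset ι → B} (hx : x ∈ Fq ι B q) : W v e x ∈ Fq ι B (q + e) := by
  induction e with
  | zero => exact hx
  | succ e ih => exact D_mem_Fq _ ih

theorem V_mem (e : ℕ) {q : ℕ} {x : Finset ι → B} (hx : x ∈ Fq ι B (q + e)) : V Φ e x ∈ Fq ι B q := by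
  induction e generalizing x with
  | zero => exact hx
  | succ e ih => exact ih (K_mem_Fq _ hx)

/-! ### Forms from a module -/

omit [LinearOrder ι] [Fintype ι] in
theorem map_mem {M N : Type*} [AddCommGroup M] [Module B M] [AddCommGroup N] [Module B N]
    (f : M →ₗ[B] N) {p : ℕ} {ω : ExteriorAlgebra B M} (hω : ω ∈ ⋀[B]^p M) :
    ExteriorAlgebra.map f ω ∈ ⋀[B]^p N := by
  have h1 := Submodule.mem_map_of_mem (f := (ExteriorAlgebra.map f).toLinearMap) hω
  rw [ExteriorAlgebra.exteriorPower, Submodule.map_pow] at h1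
  have h2 : (LinearMap.range (ExteriorAlgebra.ι B)).map (ExteriorAlgebra.map f).toLinearMap ≤
      LinearMap.range (ExteriorAlgebra.ι B (M := N)) := by
    rintro _ ⟨_, ⟨m, rfl⟩, rfl⟩
    exact ⟨f m, (ExteriorAlgebra.map_apply_ι f m).symm⟩
  exact pow_le_pow_left' h2 p h1

section Mod

variable {M : Type*} [AddCommGroup M] [Module B M]

theorem K_ev_map (w : ι → B) (σ : M →ₗ[B] (ι → B)) (hσ : ∀ m, ∑ i, σ m i * w i = 0)
    (y : ExteriorAlgebra B M) : K w (ev (ExteriorAlgebra.map σ y)) = 0 := by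
  induction y using left_ind with
  | one => rw [map_one, ev_one, K_vac]
  | smul r x hx => rw [map_smul, map_smul, map_smul, hx, smul_zero]
  | add x y hx hy => rw [map_add, map_add, map_add, hx, hy, add_zero]
  | mul m x hx =>
    rw [map_mul, ExteriorAlgebra.map_apply_ι, ev_ι_mul, K_D_eq, hσ, zero_smul, hx, map_zero, sub_zero]

/-- Linear maps which agree modulo `v 0, …, v (d-1)` give the same forms after applying `W v d`. -/
theorem W_ev_congr (d : ℕ) (σ τ : M →ₗ[B] (ι → B))
    (h : ∀ m, σ m - τ m ∈ Submodule.span B (v '' Set.Iio d)) (y : ExteriorAlgebra B M) :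
    W v d (ev (ExteriorAlgebra.map σ y)) = W v d (ev (ExteriorAlgebra.map τ y)) := by
  have hspan : ∀ (w : ι → B) (_ : w ∈ Submodule.span B (v '' Set.Iio d)) (x : Finset ι → B),
      D w (W v d x) = 0 := by
    intro w hw x
    induction hw using Submodule.span_induction with
    | mem w hw =>
      obtain ⟨j, hj, rfl⟩ := hw
      exact D_W_v hj x
    | zero => exact D_zero _
    | add a b _ _ ha hb => rw [D_add, ha, hb, add_zero]
    | smul c a _ ha => rw [D_smul, ha, smul_zero]
  induction y using left_ind with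
  | one => rw [map_one (ExteriorAlgebra.map σ), map_one (ExteriorAlgebra.map τ)]
  | smul r x hx => rw [map_smul, map_smul, map_smul, map_smul, map_smul, map_smul, hx]
  | add x y hx hy => rw [map_add, map_add, map_add, map_add, map_add, map_add, hx, hy]
  | mul m x hx =>
    rw [map_mul (ExteriorAlgebra.map σ), map_mul (ExteriorAlgebra.map τ), ExteriorAlgebra.map_apply_ι,
      ExteriorAlgebra.map_apply_ι, ev_ι_mul, ev_ι_mul, W_D, W_D, hx]
    congr 1
    have h1 := hspan _ (h m) (ev (ExteriorAlgebra.map τ x))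
    rw [D_sub, sub_eq_zero] at h1
    exact h1

end Mod

/-- The projection `e_l ↦ e_l - b_l e_{i₀}` on forms. -/
theorem ev_map_proj (b θ : ι → B) (hθ : ∑ i, θ i * b i = 1) (π : (ι → B) →ₗ[B] (ι → B))
    (hπ : ∀ w, π w = w - (∑ i, w i * b i) • θ) (y : ExteriorAlgebra B (ι → B)) :
    ev (ExteriorAlgebra.map π y) = K b (D θ (ev y)) := by
  induction y using left_ind with
  | one => rw [map_one, ev_one, K_D_eq, hθ, one_smul, K_vac, map_zero, sub_zero]
  | smul r x hx => rw [map_smul, map_smul, map_smul, map_smul, map_smul, hx]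
  | add x y hx hy => rw [map_add, map_add, map_add, map_add, map_add, hx, hy]
  | mul w x hx =>
    rw [map_mul, ExteriorAlgebra.map_apply_ι, ev_ι_mul, ev_ι_mul, hx, hπ, D_sub, D_smul]
    set z := ev x
    have h1 : D θ (K b (D θ z)) = D θ z := by
      rw [D_K_eq, hθ, one_smul, D_D_self, map_zero, sub_zero]
    rw [h1, D_eq_neg θ w z, map_neg, K_D_eq b w (D θ z)]
    abel

/-! ### The main isomorphism -/

section Main

variable {k : Type u} [CommRing k] [Algebra k B]

/-- The data which present `Ω[B⁄k]`. -/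
structure Pres (k : Type u) [CommRing k] [Algebra k B] (d : ℕ) (v Φ : ℕ → ι → B) (b : ι → B) (i₀ : ι)
    (par : Derivation k B (ι → B)) : Prop where
  dual : ∀ l j, l < d → j < d → ∑ i, v l i * Φ j i = if l = j then 1 else 0
  b_one : b i₀ = 1
  v_b : ∀ j < d, ∑ i, v j i * b i = 0
  par_b : ∀ x, ∑ i, par x i * b i = 0
  par_Φ : ∀ x, ∀ j < d, ∑ i, par x i * Φ j i = 0
  par_gen : ∀ l, par (b l) - (Pi.single l 1 - b l • Pi.single i₀ 1) ∈ Submodule.span B (v '' Set.Iio d)
  pres : ∀ x : B, KaehlerDifferential.D k B x = ∑ l, par x l • KaehlerDifferential.D k B (b l)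

variable {d : ℕ} {b : ι → B} {i₀ : ι} {par : Derivation k B (ι → B)} (h : Pres k d v Φ b i₀ par)

/-- `σ : Ω[B⁄k] → (ι → B)`. -/
noncomputable def sig (par : Derivation k B (ι → B)) : Ω[B⁄k] →ₗ[B] (ι → B) := par.liftKaehlerDifferential

omit [LinearOrder ι] [Fintype ι] in
theorem sig_D (par : Derivation k B (ι → B)) (x : B) : sig par (KaehlerDifferential.D k B x) = par x :=
  par.liftKaehlerDifferential_comp_D x

/-- `u : (ι → B) → Ω[B⁄k]`. -/
noncomputable def uu (k : Type u) [CommRing k] [Algebra k B] (b : ι → B) : (ι → B) →ₗ[B] Ω[B⁄k] where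
  toFun w := ∑ l, w l • KaehlerDifferential.D k B (b l)
  map_add' x y := by simp only [Pi.add_apply, add_smul, Finset.sum_add_distrib]
  map_smul' c x := by simp only [Pi.smul_apply, smul_eq_mul, mul_smul, Finset.smul_sum, RingHom.id_apply]

omit [LinearOrder ι] in
theorem uu_apply (b w : ι → B) : uu k b w = ∑ l, w l • KaehlerDifferential.D k B (b l) := rfl

theorem uu_single (b : ι → B) (l : ι) : uu k b (Pi.single l 1) = KaehlerDifferential.D k B (b l) := by
  rw [uu_apply, Finset.sum_eq_single l]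
  · rw [Pi.single_eq_same, one_smul]
  · intro j _ hj
    rw [Pi.single_eq_of_ne hj, zero_smul]
  · intro h
    exact absurd (mem_univ _) h

include h in
theorem uu_sig (ω : Ω[B⁄k]) : uu k b (sig par ω) = ω := by
  have hω : ω ∈ Submodule.span B (Set.range (KaehlerDifferential.D k B)) := by
    rw [KaehlerDifferential.span_range_derivation]; trivial
  induction hω using Submodule.span_induction with
  | mem x hx =>
    obtain ⟨a, rfl⟩ := hx
    rw [sig_D, uu_apply, ← h.pres]
  | zero => rw [map_zero, map_zero]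
  | add x y _ _ hx hy => rw [map_add, map_add, hx, hy]
  | smul a x _ hx => rw [map_smul, map_smul, hx]

omit [LinearOrder ι] in
theorem sig_orth (par : Derivation k B (ι → B)) (w : ι → B) (hw : ∀ x, ∑ i, par x i * w i = 0) (ω : Ω[B⁄k]) :
    ∑ i, sig par ω i * w i = 0 := by
  have hω : ω ∈ Submodule.span B (Set.range (KaehlerDifferential.D k B)) := by
    rw [KaehlerDifferential.span_range_derivation]; trivial
  induction hω using Submodule.span_induction with
  | mem x hx =>
    obtain ⟨a, rfl⟩ := hx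
    rw [sig_D]
    exact hw a
  | zero => simp
  | add x y _ _ hx hy => simp only [map_add, Pi.add_apply, add_mul, Finset.sum_add_distrib, hx, hy, add_zero]
  | smul a x _ hx =>
    simp only [map_smul, Pi.smul_apply, smul_eq_mul, mul_assoc]
    rw [← Finset.mul_sum, hx, mul_zero]

/-- The form attached to an element of the exterior algebra of differentials. -/
noncomputable def Psi (v : ℕ → ι → B) (d : ℕ) (par : Derivation k B (ι → B)) :
    ExteriorAlgebra B Ω[B⁄k] →ₗ[B] (Finset ι → B) :=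
  W v d ∘ₗ ev ∘ₗ (ExteriorAlgebra.map (sig par)).toLinearMap

theorem Psi_apply (v : ℕ → ι → B) (d : ℕ) (par : Derivation k B (ι → B)) (ω : ExteriorAlgebra B Ω[B⁄k]) :
    Psi v d par ω = W v d (ev (ExteriorAlgebra.map (sig par) ω)) := rfl

include h in
theorem Psi_injective : Function.Injective (Psi v d par) := by
  intro ω ω' hω
  have key : ∀ ω : ExteriorAlgebra B Ω[B⁄k], gam (uu k b) (V Φ d (Psi v d par ω)) = ω := by
    intro ω
    rw [Psi_apply, V_W h.dual d le_rfl (fun j hj => K_ev_map _ _ (sig_orth par _ (fun x => h.par_Φ x j hj)) _),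
      gam_ev, ← AlgHom.comp_apply, ExteriorAlgebra.map_comp_map]
    have : uu k b ∘ₗ sig par = LinearMap.id := LinearMap.ext (uu_sig h)
    rw [this, ExteriorAlgebra.map_id]
    rfl
  rw [← key ω, hω, key]

/-- The forms corresponding to `⋀^p Ω`. -/
def Zb (v : ℕ → ι → B) (b : ι → B) (d q : ℕ) : Submodule B (Finset ι → B) where
  carrier := {x | x ∈ Fq ι B q ∧ (∀ j < d, D (v j) x = 0) ∧ K b x = 0}
  zero_mem' := ⟨Submodule.zero_mem _, fun _ _ => map_zero _, map_zero _⟩
  add_mem' := fun {x y} hx hy => ⟨Submodule.add_mem _ hx.1 hy.1, fun j hj => by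
    rw [map_add, hx.2.1 j hj, hy.2.1 j hj, add_zero], by rw [map_add, hx.2.2, hy.2.2, add_zero]⟩
  smul_mem' := fun c x hx => ⟨Submodule.smul_mem _ c hx.1, fun j hj => by
    rw [map_smul, hx.2.1 j hj, smul_zero], by rw [map_smul, hx.2.2, smul_zero]⟩

include h in
theorem Psi_mem {p : ℕ} {ω : ExteriorAlgebra B Ω[B⁄k]} (hω : ω ∈ ⋀[B]^p Ω[B⁄k]) :
    Psi v d par ω ∈ Zb v b d (p + d) := by
  have h1 : ExteriorAlgebra.map (sig par) ω ∈ ⋀[B]^p (ι → B) := map_mem (sig par) hω
  refine ⟨W_mem d (ev_mem h1), fun j hj => D_W_v hj _, ?_⟩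
  rw [Psi_apply, K_W b d h.v_b, K_ev_map b (sig par) (sig_orth par b h.par_b), map_zero, smul_zero]

include h in
theorem exists_Psi {p : ℕ} {x : Finset ι → B} (hx : x ∈ Zb v b d (p + d)) :
    ∃ ω ∈ ⋀[B]^p Ω[B⁄k], Psi v d par ω = x := by
  obtain ⟨hxq, hxv, hxb⟩ := hx
  set x' := V Φ d x with hx'
  have hx'q : x' ∈ Fq ι B p := V_mem d hxq
  have hx'b : K b x' = 0 := K_V_of_eq_zero b d hxb
  have hWx' : W v d x' = x := W_V h.dual d le_rfl hxv
  refine ⟨gam (uu k b) x', gam_mem _ hx'q, ?_⟩
  let θ : ι → B := Pi.single i₀ 1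
  have hθ : ∑ i, θ i * b i = 1 := by
    rw [Finset.sum_eq_single i₀]
    · change (Pi.single i₀ 1 : ι → B) i₀ * b i₀ = 1
      rw [Pi.single_eq_same, one_mul, h.b_one]
    · intro j _ hj
      change (Pi.single i₀ 1 : ι → B) j * b j = 0
      rw [Pi.single_eq_of_ne hj, zero_mul]
    · intro h
      exact absurd (mem_univ _) h
  let π : (ι → B) →ₗ[B] (ι → B) :=
    { toFun := fun w => w - (∑ i, w i * b i) • θ
      map_add' := fun w w' => by
        simp only [Pi.add_apply, add_mul, Finset.sum_add_distrib, add_smul]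
        abel
      map_smul' := fun c w => by
        simp only [Pi.smul_apply, smul_eq_mul, mul_assoc, RingHom.id_apply]
        rw [← Finset.mul_sum, mul_smul, smul_sub] }
  have hπ : ∀ w, π w = w - (∑ i, w i * b i) • θ := fun _ => rfl
  have hcongr : ∀ m : ι → B, (sig par ∘ₗ uu k b) m - π m ∈ Submodule.span B (v '' Set.Iio d) := by
    intro m
    have hm : m = ∑ l, m l • (Pi.single l (1 : B) : ι → B) := by
      funext j
      rw [Finset.sum_apply, Finset.sum_eq_single j]
      · simp
      · intro b _ hb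
        simp [Pi.single_eq_of_ne (Ne.symm hb)]
      · intro h
        exact absurd (mem_univ _) h
    rw [hm, map_sum, map_sum, ← Finset.sum_sub_distrib]
    refine Submodule.sum_mem _ fun l _ => ?_
    rw [map_smul, map_smul, ← smul_sub]
    refine Submodule.smul_mem _ _ ?_
    rw [LinearMap.comp_apply, uu_single, sig_D, hπ]
    have h1 : (∑ i, (Pi.single l (1 : B) : ι → B) i * b i) = b l := by
      rw [Finset.sum_eq_single l]
      · rw [Pi.single_eq_same, one_mul]
      · intro j _ hj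
        rw [Pi.single_eq_of_ne hj, zero_mul]
      · intro h
        exact absurd (mem_univ _) h
    rw [h1]
    exact h.par_gen l
  rw [Psi_apply, gam_eq_map, ← AlgHom.comp_apply, ExteriorAlgebra.map_comp_map,
    W_ev_congr d _ π hcongr, ev_map_proj b θ hθ π hπ, ev_gam_id, K_D_eq, hθ, one_smul, hx'b, map_zero,
    sub_zero, hWx']

/-- **The isomorphism** `⋀^p Ω[B⁄k] ≃ Zb`. -/
noncomputable def equivZb (p : ℕ) : ⋀[B]^p Ω[B⁄k] ≃ₗ[B] Zb v b d (p + d) :=
  LinearEquiv.ofBijective
    (LinearMap.codRestrict (Zb v b d (p + d)) (Psi v d par ∘ₗ (⋀[B]^p Ω[B⁄k]).subtype)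
      (fun ω => Psi_mem h ω.2))
    ⟨fun x y hxy => Subtype.ext (Psi_injective h (congrArg Subtype.val hxy)), fun x => by
      obtain ⟨ω, hω, hω'⟩ := exists_Psi h x.2
      exact ⟨⟨ω, hω⟩, Subtype.ext hω'⟩⟩

theorem equivZb_apply (p : ℕ) (ω : ⋀[B]^p Ω[B⁄k]) :
    ((equivZb h p ω : Zb v b d (p + d)) : Finset ι → B) = Psi v d par ω.1 := rfl

end Main

end Groth.Agent.Lefpen.H721.FormIso
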