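import Groth.Agent.Lefpen.H722.Ring
import Mathlib.RingTheory.Derivation.Basic

/-!
# Partial derivatives of Laurent polynomials

`pd l : AI k I → AI k I`, the partial derivative with respect to the variable `l`.
-/

set_option autoImplicit false
universe u

open MvPolynomial

namespace Groth.Agent.Lefpen.H721.LaurDer

open Groth.Agent.CohqA.LaurentLoc Groth.Agent.CohqA.LaurentCech Groth.Agent.Lefpen.H722.Ring

variable {k : Type u} [CommRing k] {ι : Type}

/-! ### Induction -/

theorem single_mem {I : Set ι} {e : ι → ℤ} (he : ∀ i, i ∉ I → 0 ≤ e i) (c : k) :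
    (AddMonoidAlgebra.single e c : LR ι k) ∈ AI k I := by
  classical
  intro m hm i hi
  rw [AddMonoidAlgebra.coeff_single, Finsupp.single_apply] at hm
  split_ifs at hm with h
  · rw [← h]
    exact he i hi
  · exact absurd rfl hm

/-- Elements of `AI k I` are sums of monomials. -/
theorem AI_ind {I : Set ι} {C : AI k I → Prop} (add : ∀ x y, C x → C y → C (x + y))
    (single : ∀ (e : ι → ℤ) (he : ∀ i, i ∉ I → 0 ≤ e i) (c : k), C ⟨AddMonoidAlgebra.single e c, single_mem he c⟩)
    (x : AI k I) : C x := by
  classical
  have key : ∀ (s : Finset (ι → ℤ)) (x : AI k I), x.1.coeff.support ⊆ s → C x := by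
    intro s
    induction s using Finset.induction_on with
    | empty =>
      intro x hx
      have h0 : x = ⟨AddMonoidAlgebra.single 0 0, single_mem (fun _ _ => le_rfl) 0⟩ := by
        apply Subtype.ext
        change x.1 = AddMonoidAlgebra.single 0 0
        apply AddMonoidAlgebra.coeff_injective
        rw [AddMonoidAlgebra.single_zero, AddMonoidAlgebra.coeff_zero]
        exact Finsupp.support_eq_empty.1 (Finset.subset_empty.1 hx)
      rw [h0]
      exact single 0 (fun _ _ => le_rfl) 0
    | insert m s hm ih =>
      intro x hx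
      by_cases hxm : x.1.coeff m = 0
      · refine ih x fun m' hm' => ?_
        rcases Finset.mem_insert.1 (hx hm') with rfl | h
        · exact absurd hxm (Finsupp.mem_support_iff.1 hm')
        · exact h
      · have h1 : x.1.erase m ∈ AI k I := by
          intro m' hm' i hi
          rw [AddMonoidAlgebra.coeff_erase, Finsupp.erase_apply] at hm'
          split_ifs at hm' with h
          · exact absurd rfl hm'
          · exact x.2 m' hm' i hi
        have h2 : x = ⟨AddMonoidAlgebra.single m (x.1.coeff m), single_mem (x.2 m hxm) _⟩ + ⟨x.1.erase m, h1⟩ :=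
          Subtype.ext (AddMonoidAlgebra.single_add_erase m x.1).symm
        rw [h2]
        refine add _ _ (single m (x.2 m hxm) _) (ih _ ?_)
        change (x.1.erase m).coeff.support ⊆ s
        rw [AddMonoidAlgebra.coeff_erase, Finsupp.support_erase]
        intro m' hm'
        rw [Finset.mem_erase] at hm'
        exact (Finset.mem_insert.1 (hx hm'.2)).resolve_left hm'.1
  exact key _ x (Finset.Subset.refl _)

/-! ### The derivations -/

/-- The derivation `X_l ∂/∂X_l`. -/
noncomputable def Eu (l : ι) : LR ι k →ₗ[k] LR ι k where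
  toFun x := AddMonoidAlgebra.ofCoeff (Finsupp.onFinset x.coeff.support (fun e => (e l : k) * x.coeff e)
    (fun e he => Finsupp.mem_support_iff.2 (fun h => he (by rw [h, mul_zero]))))
  map_add' x y := by
    apply AddMonoidAlgebra.coeff_injective
    ext e
    simp [mul_add]
  map_smul' c x := by
    apply AddMonoidAlgebra.coeff_injective
    ext e
    simp
    ring

theorem coeff_Eu (l : ι) (x : LR ι k) (e : ι → ℤ) : (Eu l x).coeff e = (e l : k) * x.coeff e := rfl

theorem Eu_single (l : ι) (e : ι → ℤ) (c : k) :
    Eu l (AddMonoidAlgebra.single e c) = AddMonoidAlgebra.single e ((e l : k) * c) := by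
  classical
  apply AddMonoidAlgebra.coeff_injective
  ext e'
  rw [coeff_Eu, AddMonoidAlgebra.coeff_single, AddMonoidAlgebra.coeff_single, Finsupp.single_apply,
    Finsupp.single_apply]
  split_ifs with h
  · rw [h]
  · rw [mul_zero]

theorem Eu_mul (l : ι) (x y : LR ι k) : Eu l (x * y) = x * Eu l y + y * Eu l x := by
  induction x using AddMonoidAlgebra.induction_linear with
  | zero => simp
  | add x x' hx hx' => rw [add_mul, map_add, hx, hx', map_add, mul_add, add_mul]; abel
  | single e c =>
    induction y using AddMonoidAlgebra.induction_linear with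
    | zero => simp
    | add y y' hy hy' => rw [mul_add, map_add, hy, hy', map_add, mul_add, add_mul]; abel
    | single e' c' =>
      rw [AddMonoidAlgebra.single_mul_single, Eu_single, Eu_single, Eu_single,
        AddMonoidAlgebra.single_mul_single, AddMonoidAlgebra.single_mul_single, add_comm e' e,
        ← AddMonoidAlgebra.single_add]
      congr 1
      rw [Pi.add_apply]
      push_cast
      ring

theorem Eu_algebraMap (l : ι) (c : k) : Eu l (algebraMap k (LR ι k) c) = 0 := by
  have h1 : algebraMap k (LR ι k) c = AddMonoidAlgebra.single 0 c := rfl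
  rw [h1, Eu_single, Pi.zero_apply, Int.cast_zero, zero_mul, AddMonoidAlgebra.single_zero]

/-- The exponent of the variable `l`. -/
noncomputable def dlt (l : ι) : ι → ℤ := castExp (Finsupp.single l 1)

open Classical in
theorem dlt_apply (l i : ι) : dlt l i = if l = i then 1 else 0 := by
  rw [dlt, castExp_apply, Finsupp.single_apply]
  split_ifs <;> rfl

theorem coeff_mul_dlt (x : LR ι k) (l : ι) (e : ι → ℤ) :
    (x * AddMonoidAlgebra.single (-dlt l) 1).coeff e = x.coeff (e + dlt l) := by
  rw [coeff_mul_single_one, sub_neg_eq_add]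

/-- The partial derivative with respect to the variable `l`. -/
noncomputable def pd (l : ι) {I : Set ι} (x : AI k I) : AI k I :=
  ⟨Eu l x.1 * AddMonoidAlgebra.single (-dlt l) 1, by
    intro e he i hi
    rw [coeff_mul_dlt, coeff_Eu] at he
    have h1 : x.1.coeff (e + dlt l) ≠ 0 := fun h => he (by rw [h, mul_zero])
    have h2 := x.2 _ h1 i hi
    rw [Pi.add_apply, dlt_apply] at h2
    split_ifs at h2 with h
    · subst h
      have h3 : (e + dlt l) l ≠ 0 := fun h' => he (by rw [h', Int.cast_zero, zero_mul])
      rw [Pi.add_apply, dlt_apply, if_pos rfl] at h3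
      omega
    · simpa using h2⟩

theorem pd_val (l : ι) {I : Set ι} (x : AI k I) :
    (pd l x).1 = Eu l x.1 * AddMonoidAlgebra.single (-dlt l) 1 := rfl

theorem pd_add (l : ι) {I : Set ι} (x y : AI k I) : pd l (x + y) = pd l x + pd l y := by
  apply Subtype.ext
  change Eu l (x.1 + y.1) * _ = Eu l x.1 * _ + Eu l y.1 * _
  rw [map_add, add_mul]

theorem pd_mul (l : ι) {I : Set ι} (x y : AI k I) : pd l (x * y) = x * pd l y + y * pd l x := by
  apply Subtype.ext
  change Eu l (x.1 * y.1) * _ = x.1 * (Eu l y.1 * _) + y.1 * (Eu l x.1 * _)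
  rw [Eu_mul, add_mul, mul_assoc, mul_assoc]

theorem pd_algebraMap (l : ι) {I : Set ι} (c : k) : pd l (algebraMap k (AI k I) c) = 0 := by
  apply Subtype.ext
  change Eu l (algebraMap k (LR ι k) c) * _ = 0
  rw [Eu_algebraMap, zero_mul]

theorem pd_smul (l : ι) {I : Set ι} (c : k) (x : AI k I) : pd l (c • x) = c • pd l x := by
  rw [Algebra.smul_def, pd_mul, pd_algebraMap, mul_zero, add_zero, ← Algebra.smul_def]

theorem pd_inclusion (l : ι) {I J : Set ι} (h : I ⊆ J) (x : AI k I) :
    pd l (Subalgebra.inclusion (AI_mono (k := k) h) x) = Subalgebra.inclusion (AI_mono (k := k) h) (pd l x) := rfl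

theorem X_mul_pd (l : ι) [Fintype ι] {I : Set ι} (x : AI k I) :
    ofP I (X l) * pd l x = ⟨Eu l x.1, by
      intro e he i hi
      rw [coeff_Eu] at he
      exact x.2 e (fun h => he (by rw [h, mul_zero])) i hi⟩ := by
  apply Subtype.ext
  change toLaurent (monomial (Finsupp.single l 1) 1) * (Eu l x.1 * AddMonoidAlgebra.single (-dlt l) 1) = Eu l x.1
  rw [toLaurent_monomial]
  have h1 := single_mul_single_neg (R := k) (dlt l)
  calc _ = Eu l x.1 * (AddMonoidAlgebra.single (dlt l) 1 * AddMonoidAlgebra.single (-dlt l) 1) := by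
        rw [dlt]; ring
    _ = _ := by rw [h1, mul_one]

open Classical in
theorem pd_X (l i : ι) {I : Set ι} : pd l (ofP I (X i : MvPolynomial ι k)) = if l = i then 1 else 0 := by
  apply Subtype.ext
  change Eu l (toLaurent (monomial (Finsupp.single i 1) 1)) * AddMonoidAlgebra.single (-dlt l) 1 = _
  rw [toLaurent_monomial, Eu_single]
  split_ifs with h
  · subst h
    rw [AddMonoidAlgebra.single_mul_single]
    have h1 : castExp (Finsupp.single l 1) + -dlt l = 0 := add_neg_cancel _
    rw [h1, castExp_apply, Finsupp.single_eq_same]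
    simp
    rfl
  · rw [castExp_apply, Finsupp.single_eq_of_ne h]
    simp

theorem pd_ofP [Fintype ι] (l : ι) {I : Set ι} (P : MvPolynomial ι k) : pd l (ofP I P) = ofP I (pderiv l P) := by
  classical
  induction P using MvPolynomial.induction_on with
  | C c => rw [ofP_C, pd_algebraMap, pderiv_C, map_zero]
  | add p q hp hq => rw [map_add, pd_add, hp, hq, map_add, map_add]
  | mul_X p i hp =>
    rw [map_mul, pd_mul, hp, pd_X, pderiv_mul, pderiv_X, map_add, map_mul, map_mul]
    by_cases h : l = i
    · subst h
      rw [if_pos rfl, Pi.single_eq_same, map_one]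
      ring
    · rw [if_neg h, Pi.single_eq_of_ne (Ne.symm h), map_zero]
      ring

variable [Fintype ι]

theorem pd_mem (l : ι) {I : Set ι} {m : ℤ} {x : AI k I} (hx : x ∈ grA k I m) : pd l x ∈ grA k I (m - 1) := by
  rw [mem_grA_iff] at hx ⊢
  intro e he
  rw [pd_val, coeff_mul_dlt, coeff_Eu] at he
  have h1 := hx _ (fun h => he (by rw [h, mul_zero]))
  simp only [Pi.add_apply] at h1
  rw [Finset.sum_add_distrib, dlt, sum_castExp, Finsupp.degree_single] at h1
  push_cast at h1
  omega

/-- Euler's identity. -/
theorem euler_pd {I : Set ι} {m : ℤ} {x : AI k I} (hx : x ∈ grA k I m) :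
    ∑ l, ofP I (X l) * pd l x = m • x := by
  rw [mem_grA_iff] at hx
  simp only [X_mul_pd]
  apply Subtype.ext
  rw [AddSubmonoidClass.coe_finsetSum]
  change ∑ l, Eu l x.1 = m • x.1
  apply AddMonoidAlgebra.coeff_injective
  ext e
  rw [AddMonoidAlgebra.coeff_sum, Finsupp.finsetSum_apply, AddMonoidAlgebra.coeff_smul, Finsupp.smul_apply]
  simp only [coeff_Eu]
  rw [← Finset.sum_mul]
  by_cases he : x.1.coeff e = 0
  · rw [he, mul_zero, smul_zero]
  · rw [← Int.cast_sum, hx e he, zsmul_eq_mul]

/-! ### Derivations are determined by their values on the variables -/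

theorem der_eq {R : Type*} [CommRing R] {M : Type*} [AddCommGroup M] [Module R M] {I : Set ι}
    (φ : AI k I →+* R) (E E' : AI k I →+ M) (hE : ∀ x y, E (x * y) = φ x • E y + φ y • E x)
    (hE' : ∀ x y, E' (x * y) = φ x • E' y + φ y • E' x)
    (h0 : ∀ c : k, E (algebraMap k (AI k I) c) = E' (algebraMap k (AI k I) c))
    (hX : ∀ l, E (ofP I (X l)) = E' (ofP I (X l))) (x : AI k I) : E x = E' x := by
  have hP : ∀ P : MvPolynomial ι k, E (ofP I P) = E' (ofP I P) := by
    intro P
    induction P using MvPolynomial.induction_on with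
    | C c => rw [ofP_C]; exact h0 c
    | add p q hp hq => rw [map_add, map_add, map_add, hp, hq]
    | mul_X p i hp => rw [map_mul, hE, hE', hp, hX]
  induction x using AI_ind with
  | add x y hx hy => rw [map_add, map_add, hx, hy]
  | single e he c =>
    set s : AI k I := ⟨AddMonoidAlgebra.single e c, single_mem he c⟩ with hs
    -- the denominator
    let n : ι →₀ ℕ := Finsupp.equivFunOnFinite.symm fun i => (-e i).toNat
    let q : ι →₀ ℕ := Finsupp.equivFunOnFinite.symm fun i => (e i).toNat
    have hn : ∀ i, (n i : ℤ) = (-e i).toNat := fun i => rfl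
    have hq : ∀ i, (q i : ℤ) = (e i).toNat := fun i => rfl
    have h1 : s * ofP I (monomial n 1) = ofP I (monomial q c) := by
      apply Subtype.ext
      change AddMonoidAlgebra.single e c * toLaurent (monomial n 1) = toLaurent (monomial q c)
      rw [toLaurent_monomial, toLaurent_monomial, AddMonoidAlgebra.single_mul_single, mul_one]
      congr 1
      funext i
      rw [Pi.add_apply, castExp_apply, castExp_apply, hn, hq]
      omega
    have hinv : (AddMonoidAlgebra.single (-castExp n) 1 : LR ι k) ∈ AI k I := by
      refine single_mem (fun i hi => ?_) 1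
      have := he i hi
      rw [Pi.neg_apply, castExp_apply, hn]
      omega
    have h2 : ofP I (monomial n (1 : k)) * ⟨_, hinv⟩ = 1 := by
      apply Subtype.ext
      change toLaurent (monomial n 1) * AddMonoidAlgebra.single (-castExp n) 1 = 1
      rw [toLaurent_monomial, single_mul_single_neg]
    have h3 := hE s (ofP I (monomial n 1))
    have h4 := hE' s (ofP I (monomial n 1))
    rw [h1, hP] at h3
    rw [h1] at h4
    rw [h3, hP (monomial n 1)] at h4
    have h5 := add_left_cancel h4
    have h6 := congrArg (fun z => φ ⟨_, hinv⟩ • z) h5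
    simp only [smul_smul, ← map_mul, mul_comm _ (ofP I (monomial n (1 : k))), h2, map_one, one_smul] at h6
    exact h6

end Groth.Agent.Lefpen.H721.LaurDer
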