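import Groth.Agent.Lefpen.H721.OmZ
import Groth.Agent.Lefpen.H278.BigVanish
import Groth.Agent.Lefpen.H722.Phi

/-!
# `H^i(Y, Ω^p)` as the cohomology of a system of forms

`Y = V(G_1, …, G_d) ⊆ P^{n+d}` smooth of dimension `n`.

* `nonempty_omSys_Z`: the systems `I ↦ ⋀^p Ω[(F_I)_0⁄k]` and `Z (p + d) A` have the same cohomology.
* `nonempty_HH_Z`: `H^i(Y, L) ≃ H^i(Z (p + d) A)` for a `p`-th exterior power `L` of the sheaf of differentials.
* `subsingleton_big`: vanishing above the dimension; `subsingleton_of`: reduction of the off-diagonal vanishing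
  to the cohomology of the systems of functions.
-/

set_option autoImplicit false
universe u

open CategoryTheory CategoryTheory.Limits AlgebraicGeometry

namespace Groth.Agent.Lefpen.H721.OmGlue

open LefPen Groth.Agent.Lefpen.H722.Ring Groth.Agent.Lefpen.H722.Sys Groth.Agent.Lefpen.H722.GSys
open Groth.Agent.Lefpen.H722.Hodge Groth.Agent.Lefpen.H722.Phi
open Groth.Agent.Lefpen.H721.Dehom Groth.Agent.Lefpen.H721.OmZ
open Groth.Agent.Lefpen.H278.RingIso Groth.Agent.Lefpen.H278.OmSys Groth.Agent.Lefpen.H278.SysFam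
open Groth.Agent.Lefpen.H278.BigVanish Groth.Agent.Lefpen.H718.Chart

section Alg

variable {k : Type u} [CommRing k] {ι : Type} [Fintype ι] [LinearOrder ι] {d : ℕ}
  (G : Fin d → MvPolynomial ι k) (a : Fin d → ℕ) (ha : ∀ j, 1 ≤ a j) (hG : ∀ j, (G j).IsHomogeneous (a j))
  (hΦ : HasΦ G a) (p : ℕ)

theorem nonempty_omSys_Z (i : ℕ) : Nonempty (H (omSys G p) i ≃ₗ[k]
    H (Z (mkG G a ha hG hΦ) (p + d) (A (mkG G a ha hG hΦ) d)) i) :=
  nonempty_equiv_of_family (V := omSys G p) (W := Z (mkG G a ha hG hΦ) (p + d) (A (mkG G a ha hG hΦ) d))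
    (fun _ hI => LinearEquiv.ofBijective (omZ G a ha hG hΦ p hI) (omZ_bijective G a ha hG hΦ p hI))
    (fun _ _ hI h x => omZ_nat G a ha hG hΦ p hI h x) i

end Alg

variable {n d : ℕ} {k : Type u} [Field k] {a : Fin d → ℕ} (ha : ∀ j, 1 ≤ a j)
  (G : ∀ j : Fin d, Form (n + d) k (a j)) [SmoothOfRelativeDimension n (yStr G)]

/-- `H^i(Y, Ω^p)` as the cohomology of a system of forms. -/
theorem nonempty_HH_Z [(Y G).Over (Spec (CommRingCat.of k))]
    (hover : (Y G) ↘ Spec (CommRingCat.of k) = yStr G)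
    {p : ℕ} {L : (Y G).Modules} (hL : ExtPow.IsExtPow p (Omega.sheaf (yStr G)) L) (i : ℕ) :
    Nonempty (H (Z (ciG ha G) (p + d) (A (ciG ha G) d)) i ≃ₗ[k] Coh.HH (Y G) L i) := by
  obtain ⟨e⟩ := nonempty_omSys_equiv G n hover hL i
  obtain ⟨e'⟩ := nonempty_omSys_Z (Gp G) a ha (Gp_isHomogeneous G) (ciG ha G).exists_Φ p i
  exact ⟨e'.symm.trans e⟩

/-- Vanishing above the dimension. -/
theorem subsingleton_big (p i : ℕ) (hi : n < i) :
    Subsingleton (H (Z (ciG ha G) (p + d) (A (ciG ha G) d)) i) := by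
  obtain ⟨e'⟩ := nonempty_omSys_Z (Gp G) a ha (Gp_isHomogeneous G) (ciG ha G).exists_Φ p i
  have := subsingleton_H_omSys G n p i hi
  exact e'.symm.toEquiv.subsingleton

/-- **Off-diagonal vanishing**, from the cohomology of the systems of functions. -/
theorem subsingleton_of (hO : 0 < n → OHyp (ciG ha G) n) (p i : ℕ) (hip : i ≠ p) (hn : i + p ≠ n) :
    Subsingleton (H (Z (ciG ha G) (p + d) (A (ciG ha G) d)) i) := by
  rcases Nat.eq_zero_or_pos n with rfl | hn0
  · rcases Nat.eq_zero_or_pos i with rfl | hi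
    · refine subsingleton_Z_of_card_le (ciG ha G) _ _ ?_ 0
      rw [Fintype.card_fin]
      omega
    · exact subsingleton_big ha G p i hi
  · exact vanishZ (fun q i hi => subsingleton_big ha G q i hi) (hO hn0) i p hip hn

end Groth.Agent.Lefpen.H721.OmGlue
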