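import Groth.Agent.Lefpen.H721.PsiF
import Groth.Agent.Lefpen.H722.Hodge

/-!
# `⋀^p Ω[B0 G I⁄k] ≃ Z (p + d) A`

For nonempty `I`, `omZ : ⋀^p Ω[B0 G I⁄k] → (Z (mkG …) (p + d) (A …)).M I` is bijective and natural in `I`.
-/

set_option autoImplicit false
universe u

open MvPolynomial

namespace Groth.Agent.Lefpen.H721.OmZ

open Groth.Agent.Lefpen.H722.Ring Groth.Agent.Lefpen.H722.Forms Groth.Agent.Lefpen.H722.GSys
open Groth.Agent.Lefpen.H722.Hodge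
open Groth.Agent.Lefpen.H721.Dehom Groth.Agent.Lefpen.H721.PsiF Groth.Agent.Lefpen.H721.OmegaPow

variable {k : Type u} [CommRing k] {ι : Type} [Fintype ι] [LinearOrder ι] {d : ℕ}
  (G : Fin d → MvPolynomial ι k) (a : Fin d → ℕ) (ha : ∀ j, 1 ≤ a j) (hG : ∀ j, (G j).IsHomogeneous (a j))
  (hΦ : HasΦ G a) (p : ℕ)

/-- The isomorphism between `⋀^p Ω[B0 G I⁄k]` and the forms. -/
noncomputable def omZ {I : Set ι} (hI : I.Nonempty) : ⋀[B0 G I]^p Ω[B0 G I⁄k] →ₗ[k]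
    (Z (mkG G a ha hG hΦ) (p + d) (A (mkG G a ha hG hΦ) d)).M I where
  toFun y := ⟨PsiF G (hΦ I hI).choose_spec.2 y.1,
    PsiF_mem G (hΦ I hI).choose_spec.2 ha hG (hΦ I hI).choose_spec.1 y.2⟩
  map_add' x y := Subtype.ext (map_add (PsiF G (hΦ I hI).choose_spec.2) x.1 y.1)
  map_smul' c x := Subtype.ext (by
    change PsiF G (hΦ I hI).choose_spec.2 (c • x.1) = c • PsiF G (hΦ I hI).choose_spec.2 x.1
    rw [LinearMap.map_smul_of_tower])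

theorem omZ_val {I : Set ι} (hI : I.Nonempty) (y : ⋀[B0 G I]^p Ω[B0 G I⁄k]) :
    (omZ G a ha hG hΦ p hI y).1 = PsiF G (hΦ I hI).choose_spec.2 y.1 := rfl

theorem omZ_bijective {I : Set ι} (hI : I.Nonempty) : Function.Bijective (omZ G a ha hG hΦ p hI) := by
  obtain ⟨i₀, hi₀⟩ := id hI
  refine ⟨fun x y hxy => ?_, fun x => ?_⟩
  · exact Subtype.ext (PsiF_injective G (hΦ I hI).choose_spec.2 hG hi₀ (congrArg Subtype.val hxy))
  · obtain ⟨y, hy, hyx⟩ := exists_PsiF G (hΦ I hI).choose_spec.2 ha hG (hΦ I hI).choose_spec.1 hi₀ x.2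
    exact ⟨⟨y, hy⟩, Subtype.ext hyx⟩

theorem omZ_nat {I J : Set ι} (hI : I.Nonempty) (h : I ⊆ J) (y : ⋀[B0 G I]^p Ω[B0 G I⁄k]) :
    omZ G a ha hG hΦ p (hI.mono h) (powL (ρ0 G h) p y) =
      (Z (mkG G a ha hG hΦ) (p + d) (A (mkG G a ha hG hΦ) d)).res h (omZ G a ha hG hΦ p hI y) :=
  Subtype.ext (mapF_ρ_PsiF G (hΦ I hI).choose_spec.2 (hΦ J (hI.mono h)).choose_spec.2 h y).symm

end Groth.Agent.Lefpen.H721.OmZ
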