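import Groth.Agent.Lefpen.H721.Dehom
import Groth.Agent.Lefpen.H721.FormIso

/-!
# The derivation of the model, and the presentation of the differentials of its part of degree `0`

`dF : Derivation k (F G I) (ι → F G I)`: the partial derivatives, corrected along the `v j` so that they are well defined on
the quotient by the equations and orthogonal to the `Φ j`.  `par = r ∘ dF` on `B0`.  `pres : Pres …`.
-/

set_option autoImplicit false
set_option linter.unusedSectionVars false
universe u

open MvPolynomial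

namespace Groth.Agent.Lefpen.H721.ParF

open Groth.Agent.CohqA.LaurentLoc Groth.Agent.Lefpen.H722.Ring
open Groth.Agent.Lefpen.H721.LaurDer Groth.Agent.Lefpen.H721.Dehom Groth.Agent.Lefpen.H721.FormIso

section Corr

variable {ι : Type} [Fintype ι] {R : Type u} [CommRing R] (v Φ : ℕ → ι → R) (d : ℕ)

/-- `w ↦ w - ∑ ⟨w, Φ_j⟩ v_j`. -/
def corr : (ι → R) →ₗ[R] (ι → R) where
  toFun w := w - ∑ j ∈ Finset.range d, (∑ i, w i * Φ j i) • v j
  map_add' w w' := by
    simp only [Pi.add_apply, add_mul, Finset.sum_add_distrib, add_smul]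
    abel
  map_smul' c w := by
    simp only [Pi.smul_apply, smul_eq_mul, mul_assoc, RingHom.id_apply, ← Finset.mul_sum, mul_smul]
    rw [← Finset.smul_sum, smul_sub]

theorem corr_apply (w : ι → R) :
    corr v Φ d w = w - ∑ j ∈ Finset.range d, (∑ i, w i * Φ j i) • v j := rfl

variable {v Φ d}

theorem corr_v (hΦ : ∀ l j, l < d → j < d → ∑ i, v l i * Φ j i = if l = j then 1 else 0) {l : ℕ} (hl : l < d) :
    corr v Φ d (v l) = 0 := by
  rw [corr_apply, Finset.sum_eq_single l]
  · rw [hΦ l l hl hl, if_pos rfl, one_smul, sub_self]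
  · intro j hj hne
    rw [hΦ l j hl (Finset.mem_range.1 hj), if_neg (Ne.symm hne), zero_smul]
  · intro h
    exact absurd (Finset.mem_range.2 hl) h

theorem sum_comb (c : ℕ → R) (T : ι → R) :
    ∑ i, (∑ j ∈ Finset.range d, c j • v j) i * T i = ∑ j ∈ Finset.range d, c j * ∑ i, v j i * T i := by
  simp only [Finset.sum_apply, Pi.smul_apply, smul_eq_mul, Finset.sum_mul, Finset.mul_sum, mul_assoc]
  exact Finset.sum_comm

theorem corr_pair (T w : ι → R) : ∑ i, corr v Φ d w i * T i =
    ∑ i, w i * T i - ∑ j ∈ Finset.range d, (∑ i, w i * Φ j i) * ∑ i, v j i * T i := by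
  rw [← sum_comb, ← Finset.sum_sub_distrib]
  refine Finset.sum_congr rfl fun i _ => ?_
  rw [corr_apply, Pi.sub_apply, sub_mul]

theorem corr_orth (hΦ : ∀ l j, l < d → j < d → ∑ i, v l i * Φ j i = if l = j then 1 else 0) {j : ℕ} (hj : j < d)
    (w : ι → R) : ∑ i, corr v Φ d w i * Φ j i = 0 := by
  rw [corr_pair, Finset.sum_eq_single j, hΦ j j hj hj, if_pos rfl, mul_one, sub_self]
  · intro l hl hne
    rw [hΦ l j (Finset.mem_range.1 hl) hj, if_neg hne, mul_zero]
  · intro h
    exact absurd (Finset.mem_range.2 hj) h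

theorem corr_contract (T : ι → R) (hT : ∀ j, ∑ i, v j i * T i = 0) (w : ι → R) :
    ∑ i, corr v Φ d w i * T i = ∑ i, w i * T i := by
  rw [corr_pair, sub_eq_self]
  refine Finset.sum_eq_zero fun j _ => ?_
  rw [hT, mul_zero]

theorem corr_sub_mem (w : ι → R) : corr v Φ d w - w ∈ Submodule.span R (v '' Set.Iio d) := by
  rw [corr_apply, sub_sub_cancel_left]
  refine Submodule.neg_mem _ (Submodule.sum_mem _ fun j hj => Submodule.smul_mem _ _ ?_)
  exact Submodule.subset_span ⟨j, Finset.mem_range.1 hj, rfl⟩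

end Corr

variable {k : Type u} [CommRing k] {ι : Type} [Fintype ι] {d : ℕ} (G : Fin d → MvPolynomial ι k)
  {I : Set ι} (Φ : ℕ → ι → F G I)

/-- The gradient, with values in the quotient. -/
noncomputable def grad (x : AI k I) : ι → F G I := fun l => mk G I (pd l x)

theorem grad_add (x y : AI k I) : grad G (x + y) = grad G x + grad G y := by
  funext l
  change mk G I _ = mk G I _ + mk G I _
  rw [pd_add, map_add]

theorem grad_mul (x y : AI k I) : grad G (x * y) = mk G I x • grad G y + mk G I y • grad G x := by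
  funext l
  change mk G I _ = mk G I _ * mk G I _ + mk G I _ * mk G I _
  rw [pd_mul, map_add, map_mul, map_mul]

theorem grad_smul (c : k) (x : AI k I) : grad G (c • x) = c • grad G x := by
  funext l
  change mk G I _ = c • mk G I _
  rw [pd_smul, map_smul]

theorem grad_G (j : Fin d) : grad G (ofP I (G j)) = v G I j := by
  funext l
  rw [v_apply]
  change mk G I _ = _
  rw [pd_ofP]

variable {Φ} (hΦ : ∀ l j, l < d → j < d → ∑ i, v G I l i * Φ j i = if l = j then 1 else 0)

include hΦ in
theorem corr_grad_of_mem {x : AI k I} (hx : x ∈ JI G I) : corr (v G I) Φ d (grad G x) = 0 := by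
  have key : x ∈ JI G I ∧ corr (v G I) Φ d (grad G x) = 0 := by
    refine Submodule.span_induction (p := fun x _ => x ∈ JI G I ∧ corr (v G I) Φ d (grad G x) = 0)
      ?_ ?_ ?_ ?_ hx
    · rintro _ ⟨j, rfl⟩
      exact ⟨Ideal.subset_span ⟨j, rfl⟩, by rw [grad_G, corr_v hΦ j.2]⟩
    · refine ⟨Submodule.zero_mem _, ?_⟩
      have h0 : grad G (0 : AI k I) = 0 := by
        have := grad_add G (0 : AI k I) 0
        rw [add_zero] at this
        exact left_eq_add.1 this
      rw [h0, map_zero]
    · intro x y _ _ hx hy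
      exact ⟨Submodule.add_mem _ hx.1 hy.1, by rw [grad_add, map_add, hx.2, hy.2, add_zero]⟩
    · intro c x _ hx
      refine ⟨Submodule.smul_mem _ _ hx.1, ?_⟩
      rw [smul_eq_mul, grad_mul, (mk_eq_zero_iff G).2 hx.1, zero_smul, add_zero, map_smul, hx.2, smul_zero]
  exact key.2

/-- The partial derivatives on the quotient. -/
noncomputable def dFun (Φ : ℕ → ι → F G I) (x : F G I) : ι → F G I :=
  corr (v G I) Φ d (grad G (Function.surjInv (mk_surjective G I) x))

include hΦ in
theorem dFun_mk (x : AI k I) : dFun G Φ (mk G I x) = corr (v G I) Φ d (grad G x) := by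
  rw [dFun]
  set y := Function.surjInv (mk_surjective G I) (mk G I x)
  have hy : mk G I y = mk G I x := Function.surjInv_eq _ _
  have h1 : y - x ∈ JI G I := by
    rw [← mk_eq_zero_iff, map_sub, hy, sub_self]
  have h2 : grad G y = grad G (y - x) + grad G x := by
    rw [← grad_add, sub_add_cancel]
  rw [h2, map_add, corr_grad_of_mem G hΦ h1, zero_add]

/-- The derivation of the model. -/
noncomputable def dF : Derivation k (F G I) (ι → F G I) :=
  Derivation.mk'
    { toFun := dFun G Φ
      map_add' := fun x y => by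
        obtain ⟨x, rfl⟩ := mk_surjective G I x
        obtain ⟨y, rfl⟩ := mk_surjective G I y
        rw [← map_add, dFun_mk G hΦ, dFun_mk G hΦ, dFun_mk G hΦ, grad_add, map_add]
      map_smul' := fun c x => by
        obtain ⟨x, rfl⟩ := mk_surjective G I x
        rw [← map_smul, dFun_mk G hΦ, dFun_mk G hΦ, grad_smul, LinearMap.map_smul_of_tower]
        rfl }
    (fun x y => by
      change dFun G Φ (x * y) = x • dFun G Φ y + y • dFun G Φ x
      obtain ⟨x, rfl⟩ := mk_surjective G I x
      obtain ⟨y, rfl⟩ := mk_surjective G I y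
      rw [← map_mul, dFun_mk G hΦ, dFun_mk G hΦ, dFun_mk G hΦ, grad_mul, map_add, map_smul, map_smul])

theorem dF_mk (x : AI k I) : dF G hΦ (mk G I x) = corr (v G I) Φ d (grad G x) := dFun_mk G hΦ x

theorem dF_orth {j : ℕ} (hj : j < d) (x : F G I) : ∑ i, dF G hΦ x i * Φ j i = 0 := by
  obtain ⟨x, rfl⟩ := mk_surjective G I x
  rw [dF_mk]
  exact corr_orth hΦ hj _

variable {a : Fin d → ℕ} (hG : ∀ j, (G j).IsHomogeneous (a j))

include hG in
theorem dF_T {m : ℤ} {x : F G I} (hx : x ∈ gr G I m) : ∑ i, dF G hΦ x i * T G I i = m • x := by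
  obtain ⟨x, hx', rfl⟩ := exists_of_mem_gr G hx
  rw [dF_mk, corr_contract _ (euler G a hG I), ← map_zsmul, ← euler_pd hx', map_sum]
  refine Finset.sum_congr rfl fun i _ => ?_
  rw [map_mul, mul_comm]
  rfl

include hG in
theorem dF_mem (ha : ∀ j, 1 ≤ a j) (hΦm : ∀ j i, Φ j i ∈ gr G I (1 - aZ a j)) {m : ℤ} {x : F G I}
    (hx : x ∈ gr G I m) (l : ι) : dF G hΦ x l ∈ gr G I (m - 1) := by
  obtain ⟨x, hx', rfl⟩ := exists_of_mem_gr G hx
  rw [dF_mk, corr_apply, Pi.sub_apply, Finset.sum_apply]
  have h1 : ∀ l, grad G x l ∈ gr G I (m - 1) := fun l => mk_mem_gr G (pd_mem l hx')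
  refine Submodule.sub_mem _ (h1 l) (Submodule.sum_mem _ fun j _ => ?_)
  rw [Pi.smul_apply, smul_eq_mul]
  have h2 : ∑ i, grad G x i * Φ j i ∈ gr G I (m - 1 + (1 - aZ a j)) :=
    Submodule.sum_mem _ fun i _ => mul_mem_gr G (h1 i) (hΦm j i)
  have h3 := mul_mem_gr G h2 (v_mem G a ha hG I j l)
  rwa [show m - 1 + (1 - aZ a j) + (aZ a j - 1) = m - 1 by ring] at h3

theorem grad_sub_mem (x : AI k I) : dF G hΦ (mk G I x) - grad G x ∈ Submodule.span (F G I) (v G I '' Set.Iio d) := by
  rw [dF_mk]
  exact corr_sub_mem _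

/-! ### Degree zero -/

section Zero

variable {i₀ : ι} (hi : i₀ ∈ I)

/-- The partial derivatives on the part of degree `0`. -/
noncomputable def par : Derivation k (B0 G I) (ι → B0 G I) :=
  Derivation.mk'
    { toFun := fun x l => r G hG hi (dF G hΦ x.1 l)
      map_add' := fun x y => by
        funext l
        change r G hG hi (dF G hΦ (x.1 + y.1) l) = _
        rw [map_add, Pi.add_apply, map_add]
        rfl
      map_smul' := fun c x => by
        funext l
        change r G hG hi (dF G hΦ (c • x.1) l) = _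
        rw [Derivation.map_smul, Pi.smul_apply, map_smul]
        rfl }
    (fun x y => by
      funext l
      change r G hG hi (dF G hΦ (x.1 * y.1) l) = x * r G hG hi (dF G hΦ y.1 l) + y * r G hG hi (dF G hΦ x.1 l)
      rw [Derivation.leibniz, Pi.add_apply, Pi.smul_apply, Pi.smul_apply, smul_eq_mul, smul_eq_mul, map_add,
        map_mul, map_mul, r_val, r_val])

theorem par_apply (x : B0 G I) (l : ι) : par G hΦ hG hi x l = r G hG hi (dF G hΦ x.1 l) := rfl

/-- The covectors in degree `0`. -/
noncomputable def v0 (j : ℕ) (i : ι) : B0 G I := r G hG hi (v G I j i)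

/-- The vectors in degree `0`. -/
noncomputable def Φ0 (Φ : ℕ → ι → F G I) (j : ℕ) (i : ι) : B0 G I := r G hG hi (Φ j i)

/-- The coordinates in degree `0`. -/
noncomputable def b0 (i : ι) : B0 G I := r G hG hi (T G I i)

theorem sub_mem_span_v0 {w w' : ι → F G I} (h : w - w' ∈ Submodule.span (F G I) (v G I '' Set.Iio d)) :
    (fun l => r G hG hi (w l)) - (fun l => r G hG hi (w' l)) ∈
      Submodule.span (B0 G I) (v0 G hG hi '' Set.Iio d) := by
  have key : ∀ z ∈ Submodule.span (F G I) (v G I '' Set.Iio d), (fun l => r G hG hi (z l)) ∈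
      Submodule.span (B0 G I) (v0 G hG hi '' Set.Iio d) := by
    intro z hz
    induction hz using Submodule.span_induction with
    | mem z hz =>
      obtain ⟨j, hj, rfl⟩ := hz
      exact Submodule.subset_span ⟨j, hj, rfl⟩
    | zero =>
      have : (fun l => r G hG hi ((0 : ι → F G I) l)) = 0 := funext fun l => map_zero _
      rw [this]
      exact Submodule.zero_mem _
    | add x y _ _ hx hy =>
      have : (fun l => r G hG hi ((x + y) l)) = (fun l => r G hG hi (x l)) + fun l => r G hG hi (y l) :=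
        funext fun l => map_add _ _ _
      rw [this]
      exact Submodule.add_mem _ hx hy
    | smul c x _ hx =>
      have : (fun l => r G hG hi ((c • x) l)) = r G hG hi c • fun l => r G hG hi (x l) :=
        funext fun l => map_mul _ _ _
      rw [this]
      exact Submodule.smul_mem _ _ hx
  have h1 := key _ h
  have h2 : (fun l => r G hG hi ((w - w') l)) = (fun l => r G hG hi (w l)) - fun l => r G hG hi (w' l) :=
    funext fun l => map_sub _ _ _
  rwa [h2] at h1

theorem par_sub_mem {x : AI k I} (hx : mk G I x ∈ B0 G I) :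
    par G hΦ hG hi ⟨mk G I x, hx⟩ - (fun l => r G hG hi (mk G I (pd l x))) ∈
      Submodule.span (B0 G I) (v0 G hG hi '' Set.Iio d) :=
  sub_mem_span_v0 G hG hi (grad_sub_mem G hΦ x)

/-- `d (r x) = ∑ r (∂_l x) d b_l`. -/
theorem D_r (x : AI k I) : KaehlerDifferential.D k (B0 G I) (r G hG hi (mk G I x)) =
    ∑ l, r G hG hi (mk G I (pd l x)) • KaehlerDifferential.D k (B0 G I) (b0 G hG hi l) := by
  let φ : AI k I →+* B0 G I := ((r G hG hi).comp (mk G I)).toRingHom
  have hφ : ∀ x, φ x = r G hG hi (mk G I x) := fun _ => rfl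
  let E : AI k I →+ Ω[B0 G I⁄k] :=
    { toFun := fun x => KaehlerDifferential.D k (B0 G I) (r G hG hi (mk G I x))
      map_zero' := by rw [map_zero, map_zero, map_zero]
      map_add' := fun x y => by rw [map_add, map_add, map_add] }
  let E' : AI k I →+ Ω[B0 G I⁄k] :=
    { toFun := fun x => ∑ l, r G hG hi (mk G I (pd l x)) • KaehlerDifferential.D k (B0 G I) (b0 G hG hi l)
      map_zero' := by
        refine Finset.sum_eq_zero fun l _ => ?_
        have h0 : pd l (0 : AI k I) = 0 := by
          have := pd_add l (0 : AI k I) 0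
          rw [add_zero] at this
          exact left_eq_add.1 this
        rw [h0, map_zero, map_zero, zero_smul]
      map_add' := fun x y => by
        rw [← Finset.sum_add_distrib]
        refine Finset.sum_congr rfl fun l _ => ?_
        rw [pd_add, map_add, map_add, add_smul] }
  have hE : ∀ x y, E (x * y) = φ x • E y + φ y • E x := by
    intro x y
    change KaehlerDifferential.D k (B0 G I) (r G hG hi (mk G I (x * y))) = _
    rw [map_mul, map_mul, Derivation.leibniz]
    rfl
  have hE' : ∀ x y, E' (x * y) = φ x • E' y + φ y • E' x := by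
    intro x y
    change ∑ l, _ = φ x • ∑ l, _ + φ y • ∑ l, _
    rw [Finset.smul_sum, Finset.smul_sum, ← Finset.sum_add_distrib]
    refine Finset.sum_congr rfl fun l _ => ?_
    rw [pd_mul, map_add, map_add, map_mul, map_mul, map_mul, map_mul, add_smul, mul_smul, mul_smul]
    rfl
  refine der_eq φ E E' hE hE' (fun c => ?_) (fun i => ?_) x
  · change KaehlerDifferential.D k (B0 G I) (r G hG hi (mk G I (algebraMap k _ c))) =
      ∑ l, r G hG hi (mk G I (pd l (algebraMap k _ c))) • _
    rw [AlgHom.commutes, AlgHom.commutes, Derivation.map_algebraMap]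
    refine (Finset.sum_eq_zero fun l _ => ?_).symm
    rw [pd_algebraMap, map_zero, map_zero, zero_smul]
  · classical
    change KaehlerDifferential.D k (B0 G I) (r G hG hi (mk G I (ofP I (X i)))) =
      ∑ l, r G hG hi (mk G I (pd l (ofP I (X i)))) • _
    rw [Finset.sum_eq_single i]
    · rw [pd_X, if_pos rfl, map_one, map_one, one_smul]
      rfl
    · intro l _ hl
      rw [pd_X, if_neg hl, map_zero, map_zero, zero_smul]
    · intro h
      exact absurd (Finset.mem_univ _) h

/-- `∑ v_{j,l} d b_l = 0`. -/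
theorem v0_D {j : ℕ} (hj : j < d) :
    ∑ l, v0 G hG hi j l • KaehlerDifferential.D k (B0 G I) (b0 G hG hi l) = 0 := by
  have h1 := D_r G hG hi (ofP I (G ⟨j, hj⟩))
  rw [mk_G, map_zero, map_zero] at h1
  rw [h1]
  refine Finset.sum_congr rfl fun l _ => ?_
  rw [pd_ofP, v0, v_apply G I ⟨j, hj⟩]

theorem v0_span_D {w : ι → B0 G I} (hw : w ∈ Submodule.span (B0 G I) (v0 G hG hi '' Set.Iio d)) :
    ∑ l, w l • KaehlerDifferential.D k (B0 G I) (b0 G hG hi l) = 0 := by
  induction hw using Submodule.span_induction with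
  | mem z hz =>
    obtain ⟨j, hj, rfl⟩ := hz
    exact v0_D G hG hi hj
  | zero => simp
  | add x y _ _ hx hy => simp only [Pi.add_apply, add_smul, Finset.sum_add_distrib, hx, hy, add_zero]
  | smul c x _ hx =>
    simp only [Pi.smul_apply, smul_eq_mul, mul_smul]
    rw [← Finset.smul_sum, hx, smul_zero]

theorem Xu_mem (l : ι) : mk G I (ofP I (X l) * uA hi (-1)) ∈ B0 G I := by
  have h2 := mk_mem_gr G (mul_mem_grA (ofP_mem (I := I) (isHomogeneous_X k l)) (uA_mem hi (-1)))
  rw [Nat.cast_one, add_neg_cancel] at h2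
  exact h2

variable [LinearOrder ι]

/-- **The presentation.** -/
theorem pres : Pres k d (v0 G hG hi) (Φ0 G hG hi Φ) (b0 G hG hi) i₀ (par G hΦ hG hi) where
  dual l j hl hj := by
    simp only [v0, Φ0, ← map_mul, ← map_sum]
    rw [hΦ l j hl hj]
    split_ifs
    · exact map_one _
    · exact map_zero _
  b_one := by rw [b0, ← uF_one G hi, r_uF]
  v_b j _ := by
    simp only [v0, b0, ← map_mul, ← map_sum]
    rw [euler G a hG I j, map_zero]
  par_b x := by
    simp only [par_apply, b0, ← map_mul, ← map_sum]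
    rw [dF_T G hΦ hG x.2, zero_smul, map_zero]
  par_Φ x j hj := by
    simp only [par_apply, Φ0, ← map_mul, ← map_sum]
    rw [dF_orth G hΦ hj, map_zero]
  par_gen l := by
    have h1 : b0 G hG hi l = ⟨mk G I (ofP I (X l) * uA hi (-1)), Xu_mem G hi l⟩ := by
      apply Subtype.ext
      change mk G I (rA hi (ofP I (X l))) = mk G I (ofP I (X l) * uA hi (-1))
      congr 1
      have h3 := rA_mul_uA hi (ofP_mem (I := I) (isHomogeneous_X k l))
      conv_rhs => rw [← h3, mul_assoc, uA_mul]
      have h4 : ((1 : ℕ) : ℤ) + -1 = 0 := by norm_num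
      rw [h4, uA_zero, mul_one]
    have h5 := par_sub_mem G hΦ hG hi (x := ofP I (X l) * uA hi (-1)) (Xu_mem G hi l)
    rw [← h1] at h5
    have h6 : (fun l' => r G hG hi (mk G I (pd l' (ofP I (X l) * uA hi (-1))))) =
        Pi.single l 1 - b0 G hG hi l • (Pi.single i₀ 1 : ι → B0 G I) := by
      have hru : r G hG hi (mk G I (uA hi (-1))) = 1 := r_uF G hG hi (-1)
      funext l'
      -- the derivative of `X_{i₀}^{-1}`
      have h7 : pd l' (uA hi (-1) : AI k I) = - (if l' = i₀ then uA hi (-2) else 0) := by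
        have h8 : ofP I (X i₀) * (uA hi (-1) : AI k I) = 1 := by
          rw [← uA_one hi, uA_mul, add_neg_cancel, uA_zero]
        have h9 := congrArg (pd l') h8
        rw [pd_mul, pd_X] at h9
        have h10 : pd l' (1 : AI k I) = 0 := by
          have := pd_algebraMap l' (I := I) (1 : k)
          rwa [map_one] at this
        rw [h10] at h9
        have h11 := congrArg (fun z => uA hi (-1) * z) h9
        simp only [mul_add, mul_zero, ← mul_assoc] at h11
        rw [mul_comm (uA hi (-1)) (ofP I (X i₀)), h8, one_mul, uA_mul] at h11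
        rw [eq_neg_of_add_eq_zero_left h11]
        split_ifs
        · rw [mul_one]; rfl
        · rw [mul_zero]
      rw [pd_mul, h7, pd_X, map_add, map_add, map_mul, map_mul, map_mul, map_mul, hru, one_mul]
      have h12 : r G hG hi (mk G I (ofP I (X l))) = b0 G hG hi l := rfl
      rw [h12]
      have h13 : r G hG hi (mk G I (uA hi (-2))) = 1 := r_uF G hG hi (-2)
      rw [Pi.sub_apply, Pi.smul_apply, smul_eq_mul, Pi.single_apply, Pi.single_apply]
      split_ifs <;> simp [h13]
      · ring
    rwa [h6] at h5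
  pres x := by
    obtain ⟨x, hx⟩ := x
    obtain ⟨y, hy, rfl⟩ := exists_of_mem_gr G hx
    have h1 := D_r G hG hi y
    have h2 : r G hG hi (mk G I y) = ⟨mk G I y, hx⟩ := r_val G hG hi ⟨mk G I y, hx⟩
    rw [h2] at h1
    rw [h1]
    have h3 := v0_span_D G hG hi (par_sub_mem G hΦ hG hi hx)
    simp only [Pi.sub_apply, sub_smul, Finset.sum_sub_distrib] at h3
    exact (sub_eq_zero.1 h3).symm

end Zero

end Groth.Agent.Lefpen.H721.ParF
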