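import Groth.Agent.Lefpen.H721.ParF

/-!
# Differentials of the part of degree `0` as homogeneous forms over the model

`PsiF : ⋀ Ω[B0 G I⁄k] → (Finset ι → F G I)`, independent of the choice of `i₀ ∈ I`; on `⋀^p` it is a bijection onto
`Zsub … (p + d) (a_1 + ⋯ + a_d)`, and it is natural in `I`.
-/

set_option autoImplicit false
set_option linter.unusedSectionVars false
set_option linter.dupNamespace false
universe u

open MvPolynomial

namespace Groth.Agent.Lefpen.H721.PsiF

open Groth.Agent.Lefpen.H722.Ring Groth.Agent.Lefpen.H722.Forms Groth.Agent.Lefpen.H722.GSys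
open Groth.Agent.Lefpen.H721.FormAlg Groth.Agent.Lefpen.H721.LaurDer Groth.Agent.Lefpen.H721.Dehom
open Groth.Agent.Lefpen.H721.FormIso Groth.Agent.Lefpen.H721.ParF Groth.Agent.Lefpen.H721.OmegaPow

variable {k : Type u} [CommRing k] {ι : Type} [Fintype ι] [LinearOrder ι] {d : ℕ}
  (G : Fin d → MvPolynomial ι k) {I : Set ι} {Φ : ℕ → ι → F G I}
  (hΦ : ∀ l j, l < d → j < d → ∑ i, v G I l i * Φ j i = if l = j then 1 else 0)

/-- `dF`, restricted to degree `0`. -/
noncomputable def dF0 : Derivation k (B0 G I) (ι → F G I) :=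
  Derivation.mk'
    { toFun := fun x => dF G hΦ x.1
      map_add' := fun x y => map_add (dF G hΦ) x.1 y.1
      map_smul' := fun c x => Derivation.map_smul (dF G hΦ) c x.1 }
    (fun x y => Derivation.leibniz (dF G hΦ) x.1 y.1)

theorem dF0_apply (x : B0 G I) : dF0 G hΦ x = dF G hΦ x.1 := rfl

/-- `σ : Ω[B0⁄k] → (ι → F)`. -/
noncomputable def sF : Ω[B0 G I⁄k] →ₗ[B0 G I] (ι → F G I) := (dF0 G hΦ).liftKaehlerDifferential

theorem sF_D (x : B0 G I) : sF G hΦ (KaehlerDifferential.D k (B0 G I) x) = dF G hΦ x.1 :=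
  (dF0 G hΦ).liftKaehlerDifferential_comp_D x

/-- `D`, linearly over the part of degree `0`. -/
noncomputable def DL0 : (ι → F G I) →ₗ[B0 G I] Module.End (B0 G I) (Finset ι → F G I) where
  toFun w :=
    { toFun := D w
      map_add' := map_add (D w)
      map_smul' := fun c x => map_smul (D w) (c : F G I) x }
  map_add' w w' := LinearMap.ext (D_add w w')
  map_smul' c w := LinearMap.ext (D_smul (c : F G I) w)

/-- The action of the exterior algebra on forms. -/
noncomputable def DA0 : ExteriorAlgebra (B0 G I) Ω[B0 G I⁄k] →ₐ[B0 G I]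
    Module.End (B0 G I) (Finset ι → F G I) :=
  ExteriorAlgebra.lift (B0 G I) ⟨DL0 G ∘ₗ sF G hΦ, fun m => LinearMap.ext (D_D_self (sF G hΦ m))⟩

theorem DA0_ι (m : Ω[B0 G I⁄k]) (x : Finset ι → F G I) :
    DA0 G hΦ (ExteriorAlgebra.ι (B0 G I) m) x = D (sF G hΦ m) x := by
  rw [DA0, ExteriorAlgebra.lift_ι_apply]
  rfl

/-- The form attached to an element of the exterior algebra. -/
noncomputable def evF : ExteriorAlgebra (B0 G I) Ω[B0 G I⁄k] →ₗ[B0 G I] (Finset ι → F G I) where
  toFun y := DA0 G hΦ y vac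
  map_add' x y := by rw [map_add]; rfl
  map_smul' c x := by rw [map_smul]; rfl

theorem evF_one : evF G hΦ 1 = vac := by
  change DA0 G hΦ 1 vac = vac
  rw [map_one]
  rfl

theorem evF_ι_mul (m : Ω[B0 G I⁄k]) (y : ExteriorAlgebra (B0 G I) Ω[B0 G I⁄k]) :
    evF G hΦ (ExteriorAlgebra.ι (B0 G I) m * y) = D (sF G hΦ m) (evF G hΦ y) := by
  change DA0 G hΦ (ExteriorAlgebra.ι (B0 G I) m * y) vac = D (sF G hΦ m) (DA0 G hΦ y vac)
  rw [map_mul, Module.End.mul_apply, DA0_ι]

/-- The homogeneous form attached to an element of the exterior algebra. -/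
noncomputable def PsiF : ExteriorAlgebra (B0 G I) Ω[B0 G I⁄k] →ₗ[B0 G I] (Finset ι → F G I) where
  toFun y := W (v G I) d (evF G hΦ y)
  map_add' x y := by rw [map_add, map_add]
  map_smul' c x := by rw [map_smul]; exact map_smul (W (v G I) d) (c : F G I) (evF G hΦ x)

theorem PsiF_apply (y : ExteriorAlgebra (B0 G I) Ω[B0 G I⁄k]) :
    PsiF G hΦ y = W (v G I) d (evF G hΦ y) := rfl

/-! ### Comparison with `Psi` -/

section Comp

variable {F F' : Type u} [CommRing F] [CommRing F'] (f : F →+* F')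

theorem mapF_vac : mapF f (vac : Finset ι → F) = vac := by
  funext s
  rw [mapF_apply, vac, vac, dl, dl, Pi.single_apply, Pi.single_apply]
  split_ifs
  · exact map_one f
  · exact map_zero f

theorem mapF_add (x y : Finset ι → F) : mapF f (x + y) = mapF f x + mapF f y :=
  funext fun _ => map_add f _ _

theorem mapF_smul (c : F) (x : Finset ι → F) : mapF f (c • x) = f c • mapF f x :=
  funext fun _ => map_mul f _ _

theorem mapF_W (v : ℕ → ι → F) (e : ℕ) (x : Finset ι → F) :
    mapF f (W v e x) = W (fun j i => f (v j i)) e (mapF f x) := by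
  induction e with
  | zero => rfl
  | succ e ih => rw [W_succ, mapF_D, ih, W_succ]

end Comp

section Zero

variable {a : Fin d → ℕ} (hG : ∀ j, (G j).IsHomogeneous (a j)) {i₀ : ι} (hi : i₀ ∈ I)

theorem r_sF (m : Ω[B0 G I⁄k]) (l : ι) : r G hG hi (sF G hΦ m l) = sig (par G hΦ hG hi) m l := by
  have hm : m ∈ Submodule.span (B0 G I) (Set.range (KaehlerDifferential.D k (B0 G I))) := by
    rw [KaehlerDifferential.span_range_derivation]; trivial
  induction hm using Submodule.span_induction with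
  | mem x hx =>
    obtain ⟨b, rfl⟩ := hx
    rw [sF_D, sig_D]
    rfl
  | zero => rw [map_zero, map_zero, Pi.zero_apply, Pi.zero_apply, map_zero]
  | add x y _ _ hx hy => rw [map_add, map_add, Pi.add_apply, Pi.add_apply, map_add, hx, hy]
  | smul c x _ hx =>
    rw [map_smul, map_smul, Pi.smul_apply, Pi.smul_apply, ← hx]
    change r G hG hi (c.1 * _) = c * _
    rw [map_mul, r_val]

theorem mapF_r_evF (y : ExteriorAlgebra (B0 G I) Ω[B0 G I⁄k]) :
    mapF (r G hG hi).toRingHom (evF G hΦ y) = ev (ExteriorAlgebra.map (sig (par G hΦ hG hi)) y) := by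
  induction y using left_ind with
  | one => rw [evF_one, map_one, ev_one, mapF_vac]
  | smul c x hx =>
    rw [map_smul, map_smul, map_smul, ← hx]
    refine (mapF_smul (r G hG hi).toRingHom c.1 (evF G hΦ x)).trans ?_
    congr 1
    exact r_val G hG hi c
  | add x y hx hy => rw [map_add, map_add, map_add, mapF_add, hx, hy]
  | mul m x hx =>
    rw [evF_ι_mul, map_mul, ExteriorAlgebra.map_apply_ι, ev_ι_mul, mapF_D, hx]
    congr 2
    funext l
    exact r_sF G hΦ hG hi m l

theorem mapF_r_PsiF (y : ExteriorAlgebra (B0 G I) Ω[B0 G I⁄k]) :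
    mapF (r G hG hi).toRingHom (PsiF G hΦ y) = Psi (v0 G hG hi) d (par G hΦ hG hi) y := by
  rw [PsiF_apply, mapF_W, mapF_r_evF]
  rfl

include hG hi in
theorem PsiF_injective : Function.Injective (PsiF G hΦ) := by
  intro x y hxy
  apply Psi_injective (pres G hΦ hG hi)
  rw [← mapF_r_PsiF, ← mapF_r_PsiF, hxy]

end Zero

/-! ### Degrees -/

section Deg

variable {a : Fin d → ℕ} (ha : ∀ j, 1 ≤ a j) (hG : ∀ j, (G j).IsHomogeneous (a j))
  (hΦm : ∀ j i, Φ j i ∈ gr G I (1 - aZ a j))

include ha hG hΦm in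
theorem sF_mem (m : Ω[B0 G I⁄k]) (l : ι) : sF G hΦ m l ∈ gr G I (-1) := by
  have hm : m ∈ Submodule.span (B0 G I) (Set.range (KaehlerDifferential.D k (B0 G I))) := by
    rw [KaehlerDifferential.span_range_derivation]; trivial
  induction hm using Submodule.span_induction with
  | mem x hx =>
    obtain ⟨b, rfl⟩ := hx
    rw [sF_D]
    have := dF_mem G hΦ hG ha hΦm b.2 l
    rwa [zero_sub] at this
  | zero => rw [map_zero]; exact Submodule.zero_mem _
  | add x y _ _ hx hy => rw [map_add]; exact Submodule.add_mem _ hx hy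
  | smul c x _ hx =>
    rw [map_smul]
    have := mul_mem_gr G (show c.1 ∈ gr G I 0 from c.2) hx
    rwa [zero_add] at this

include hG in
theorem sF_T (m : Ω[B0 G I⁄k]) : ∑ i, sF G hΦ m i * T G I i = 0 := by
  have hm : m ∈ Submodule.span (B0 G I) (Set.range (KaehlerDifferential.D k (B0 G I))) := by
    rw [KaehlerDifferential.span_range_derivation]; trivial
  induction hm using Submodule.span_induction with
  | mem x hx =>
    obtain ⟨b, rfl⟩ := hx
    rw [sF_D, dF_T G hΦ hG b.2, zero_smul]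
  | zero => simp
  | add x y _ _ hx hy =>
    simp only [map_add, Pi.add_apply, add_mul, Finset.sum_add_distrib, hx, hy, add_zero]
  | smul c x _ hx =>
    rw [map_smul]
    have : ∀ i, (c • sF G hΦ x) i * T G I i = c.1 * (sF G hΦ x i * T G I i) := fun i => mul_assoc c.1 _ _
    simp only [this]
    rw [← Finset.mul_sum, hx, mul_zero]

include hG in
theorem K_evF (y : ExteriorAlgebra (B0 G I) Ω[B0 G I⁄k]) : K (T G I) (evF G hΦ y) = 0 := by
  induction y using left_ind with
  | one => rw [evF_one, K_vac]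
  | smul c x hx =>
    rw [map_smul]
    have h1 := map_smul (K (T G I)) c.1 (evF G hΦ x)
    rw [hx, smul_zero] at h1
    exact h1
  | add x y hx hy => rw [map_add, map_add, hx, hy, add_zero]
  | mul m x hx => rw [evF_ι_mul, K_D_eq, sF_T G hΦ hG, zero_smul, hx, map_zero, sub_zero]

theorem gr_smul_mem {q : ℕ} {m : ℤ} (c : B0 G I) {x : Finset ι → F G I} (hx : x ∈ Fm (gr G I) q m) :
    c • x ∈ Fm (gr G I) q m := by
  refine ⟨fun s hs => ?_, fun s hs => ?_⟩
  · have := mul_mem_gr G (show c.1 ∈ gr G I 0 from c.2) (hx.1 s hs)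
    rwa [zero_add] at this
  · change c.1 * x s = 0
    rw [hx.2 s hs, mul_zero]

include ha hG hΦm in
theorem evF_mem (q : ℕ) {y : ExteriorAlgebra (B0 G I) Ω[B0 G I⁄k]} (hy : y ∈ ⋀[B0 G I]^q Ω[B0 G I⁄k]) :
    evF G hΦ y ∈ Fm (gr G I) q 0 := by
  induction q generalizing y with
  | zero =>
    rw [ExteriorAlgebra.exteriorPower, pow_zero, Submodule.mem_one] at hy
    obtain ⟨c, rfl⟩ := hy
    rw [Algebra.algebraMap_eq_smul_one, map_smul, evF_one]
    refine gr_smul_mem G c ⟨fun s hs => ?_, fun s hs => ?_⟩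
    · rw [Finset.card_eq_zero] at hs
      subst hs
      rw [vac, dl, Pi.single_eq_same]
      exact one_mem_gr G I
    · exact vac_mem s hs
  | succ q ih =>
    rw [ExteriorAlgebra.exteriorPower, pow_succ'] at hy
    induction hy using Submodule.mul_induction_on' with
    | mem_mul_mem m hm n hn =>
      obtain ⟨w, rfl⟩ := hm
      rw [evF_ι_mul]
      have h1 : (0 : ℤ) = 0 + -1 + 1 := by norm_num
      exact D_mem (gr := gr G I) (fun hx hy => mul_mem_gr G hx hy) (sF_mem G hΦ ha hG hΦm w) h1 (ih hn)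
    | add x _ y _ hx hy =>
      rw [map_add]
      exact Submodule.add_mem _ hx hy

include ha hG in
theorem W_mem_Fm {q : ℕ} {m : ℤ} {x : Finset ι → F G I} (hx : x ∈ Fm (gr G I) q m) (e : ℕ) :
    W (v G I) e x ∈ Fm (gr G I) (q + e) (m + ∑ j ∈ Finset.range e, aZ a j) := by
  induction e with
  | zero =>
    rw [Finset.sum_range_zero, W_zero, add_zero, add_zero]
    exact hx
  | succ e ih =>
    rw [W_succ]
    have h1 : m + ∑ j ∈ Finset.range (e + 1), aZ a j = m + ∑ j ∈ Finset.range e, aZ a j + (aZ a e - 1) + 1 := by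
      rw [Finset.sum_range_succ]; ring
    exact D_mem (gr := gr G I) (fun hx hy => mul_mem_gr G hx hy) (v_mem G a ha hG I e) h1 ih

include ha hG hΦm in
theorem PsiF_mem {p : ℕ} {y : ExteriorAlgebra (B0 G I) Ω[B0 G I⁄k]} (hy : y ∈ ⋀[B0 G I]^p Ω[B0 G I⁄k]) :
    PsiF G hΦ y ∈ Zsub (gr G I) (v G I) (T G I) d (p + d) (∑ j ∈ Finset.range d, aZ a j) := by
  have h1 := W_mem_Fm G ha hG (evF_mem G hΦ ha hG hΦm p hy) d
  rw [zero_add] at h1
  refine ⟨⟨h1, fun j hj => D_W_v hj _⟩, ?_⟩
  rw [PsiF_apply, K_W (T G I) d (fun j _ => euler G a hG I j), K_evF G hΦ hG, map_zero, smul_zero]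

include ha hG hΦm in
/-- Surjectivity onto homogeneous forms. -/
theorem exists_PsiF {i₀ : ι} (hi : i₀ ∈ I) {p : ℕ} {x : Finset ι → F G I}
    (hx : x ∈ Zsub (gr G I) (v G I) (T G I) d (p + d) (∑ j ∈ Finset.range d, aZ a j)) :
    ∃ y ∈ ⋀[B0 G I]^p Ω[B0 G I⁄k], PsiF G hΦ y = x := by
  have h1 : mapF (r G hG hi).toRingHom x ∈ Zb (v0 G hG hi) (b0 G hG hi) d (p + d) := by
    refine ⟨fun s hs => ?_, fun j hj => ?_, ?_⟩
    · rw [mapF_apply, hx.1.1.2 s hs, map_zero]
    · have h2 := mapF_D (r G hG hi).toRingHom (v G I j) x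
      rw [hx.1.2 j hj] at h2
      exact h2.symm.trans (mapF_zero _)
    · have h2 := mapF_K (r G hG hi).toRingHom (T G I) x
      rw [hx.2] at h2
      exact h2.symm.trans (mapF_zero _)
  obtain ⟨y, hy, hyx⟩ := exists_Psi (pres G hΦ hG hi) h1
  refine ⟨y, hy, ?_⟩
  rw [← mapF_r_PsiF] at hyx
  have h3 := PsiF_mem G hΦ ha hG hΦm hy
  funext s
  by_cases hs : s.card = p + d
  · exact r_injOn G hG hi (h3.1.1.1 s hs) (hx.1.1.1 s hs) (congrFun hyx s)
  · rw [h3.1.1.2 s hs, hx.1.1.2 s hs]

end Deg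

/-! ### Naturality -/

section Nat

/-- Products of covectors. -/
def prodD {F : Type u} [CommRing F] (l : List (ι → F)) : Finset ι → F := l.foldr (fun w x => D w x) vac

theorem mapF_prodD {F F' : Type u} [CommRing F] [CommRing F'] (f : F →+* F') (l : List (ι → F)) :
    mapF f (prodD l) = prodD (l.map (fun w i => f (w i))) := by
  induction l with
  | nil => exact mapF_vac f
  | cons w l ih => exact (mapF_D f w (prodD l)).trans (congrArg _ ih)

theorem W_prodD_congr {F : Type u} [CommRing F] {v : ℕ → ι → F} {α : Type*} (l : List α) (f g : α → ι → F)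
    (h : ∀ x, f x - g x ∈ Submodule.span F (v '' Set.Iio d)) :
    W v d (prodD (l.map f)) = W v d (prodD (l.map g)) := by
  have hspan : ∀ (w : ι → F) (_ : w ∈ Submodule.span F (v '' Set.Iio d)) (x : Finset ι → F),
      D w (W v d x) = 0 := by
    intro w hw x
    induction hw using Submodule.span_induction with
    | mem w hw =>
      obtain ⟨j, hj, rfl⟩ := hw
      exact D_W_v hj x
    | zero => exact D_zero _
    | add a b _ _ ha hb => rw [D_add, ha, hb, add_zero]
    | smul c a _ ha => rw [D_smul, ha, smul_zero]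
  induction l with
  | nil => rfl
  | cons x l ih =>
    change W v d (D (f x) (prodD (l.map f))) = W v d (D (g x) (prodD (l.map g)))
    rw [W_D, W_D, ih]
    congr 1
    have h1 := hspan _ (h x) (prodD (l.map g))
    rw [D_sub, sub_eq_zero] at h1
    exact h1

theorem evF_list (l : List (Ω[B0 G I⁄k])) :
    evF G hΦ ((l.map (ExteriorAlgebra.ι (B0 G I))).prod) = prodD (l.map (sF G hΦ)) := by
  induction l with
  | nil => exact evF_one G hΦ
  | cons m l ih => rw [List.map_cons, List.prod_cons, evF_ι_mul, ih]; rfl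

theorem PsiF_ιMulti {p : ℕ} (x : Fin p → B0 G I) :
    PsiF G hΦ (exteriorPower.ιMulti (B0 G I) p (fun l => KaehlerDifferential.D k (B0 G I) (x l))).1 =
      W (v G I) d (prodD ((List.ofFn x).map fun b => dF G hΦ b.1)) := by
  have h1 : (exteriorPower.ιMulti (B0 G I) p (fun l => KaehlerDifferential.D k (B0 G I) (x l))).1 =
      (((List.ofFn x).map (KaehlerDifferential.D k (B0 G I))).map (ExteriorAlgebra.ι (B0 G I))).prod := by
    rw [exteriorPower.ιMulti_apply_coe, ExteriorAlgebra.ιMulti_apply, List.map_ofFn, List.map_ofFn]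
    rfl
  rw [PsiF_apply, h1, evF_list, List.map_map]
  congr 3
  funext b
  exact sF_D G hΦ b

variable {J : Set ι} {Φ' : ℕ → ι → F G J}
  (hΦ' : ∀ l j, l < d → j < d → ∑ i, v G J l i * Φ' j i = if l = j then 1 else 0)

theorem ρ_dF_sub_mem (h : I ⊆ J) (x : F G I) :
    (fun i => ρ G h (dF G hΦ x i)) - dF G hΦ' (ρ G h x) ∈ Submodule.span (F G J) (v G J '' Set.Iio d) := by
  obtain ⟨x, rfl⟩ := mk_surjective G I x
  have key : ∀ z ∈ Submodule.span (F G I) (v G I '' Set.Iio d), (fun l => ρ G h (z l)) ∈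
      Submodule.span (F G J) (v G J '' Set.Iio d) := by
    intro z hz
    induction hz using Submodule.span_induction with
    | mem z hz =>
      obtain ⟨j, hj, rfl⟩ := hz
      have : (fun l => ρ G h (v G I j l)) = v G J j := funext fun l => ρ_v G h j l
      rw [this]
      exact Submodule.subset_span ⟨j, hj, rfl⟩
    | zero =>
      have : (fun l => ρ G h ((0 : ι → F G I) l)) = 0 := funext fun l => map_zero _
      rw [this]
      exact Submodule.zero_mem _
    | add x y _ _ hx hy =>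
      have : (fun l => ρ G h ((x + y) l)) = (fun l => ρ G h (x l)) + fun l => ρ G h (y l) :=
        funext fun l => map_add _ _ _
      rw [this]
      exact Submodule.add_mem _ hx hy
    | smul c x _ hx =>
      have : (fun l => ρ G h ((c • x) l)) = ρ G h c • fun l => ρ G h (x l) :=
        funext fun l => map_mul _ _ _
      rw [this]
      exact Submodule.smul_mem _ _ hx
  have h1 := key _ (grad_sub_mem G hΦ x)
  have h2 := grad_sub_mem G hΦ' (Subalgebra.inclusion (AI_mono (k := k) h) x)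
  rw [ρ_mk]
  have h3 : (fun l => ρ G h ((dF G hΦ (mk G I x) - grad G x) l)) =
      (fun l => ρ G h (dF G hΦ (mk G I x) l)) - grad G (Subalgebra.inclusion (AI_mono (k := k) h) x) := by
    funext l
    rw [Pi.sub_apply, Pi.sub_apply, map_sub]
    rfl
  rw [h3] at h1
  have h4 := Submodule.sub_mem _ h1 h2
  rwa [sub_sub_sub_cancel_right] at h4

/-- **Naturality.** -/
theorem mapF_ρ_PsiF (h : I ⊆ J) {p : ℕ} (y : ⋀[B0 G I]^p Ω[B0 G I⁄k]) :
    mapF (ρ G h).toRingHom (PsiF G hΦ y.1) = PsiF G hΦ' (powS (ρ0 G h) p y).1 := by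
  let f : ⋀[B0 G I]^p Ω[B0 G I⁄k] →+ (Finset ι → F G J) :=
    { toFun := fun y => mapF (ρ G h).toRingHom (PsiF G hΦ y.1)
      map_zero' := by
        rw [ZeroMemClass.coe_zero, map_zero]
        exact mapF_zero _
      map_add' := fun x y => by rw [Submodule.coe_add, map_add, mapF_add] }
  let g : ⋀[B0 G I]^p Ω[B0 G I⁄k] →+ (Finset ι → F G J) :=
    { toFun := fun y => PsiF G hΦ' (powS (ρ0 G h) p y).1
      map_zero' := by rw [map_zero, ZeroMemClass.coe_zero, map_zero]
      map_add' := fun x y => by rw [map_add, Submodule.coe_add, map_add] }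
  have hfg : f = g := by
    apply add_hom_ext
    intro b x
    change mapF (ρ G h).toRingHom (PsiF G hΦ (b • (exteriorPower.ιMulti (B0 G I) p
        (fun l => KaehlerDifferential.D k (B0 G I) (x l))).1)) =
      PsiF G hΦ' (powS (ρ0 G h) p (b • exteriorPower.ιMulti (B0 G I) p
        (fun l => KaehlerDifferential.D k (B0 G I) (x l)))).1
    have h0 := LinearMap.map_smulₛₗ (powS (ρ0 G h) p) b (exteriorPower.ιMulti (B0 G I) p
        (fun l => KaehlerDifferential.D k (B0 G I) (x l)))
    rw [h0, powS_D, map_smul, PsiF_ιMulti]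
    rw [Submodule.coe_smul, map_smul, PsiF_ιMulti]
    refine (mapF_smul (ρ G h).toRingHom b.1 _).trans ?_
    rw [mapF_W, mapF_prodD, List.map_map]
    have h1 : (fun j i => (ρ G h).toRingHom (v G I j i)) = v G J := by
      funext j i
      exact ρ_v G h j i
    rw [h1]
    have h2 : List.ofFn (fun l => ρ0 G h (x l)) = (List.ofFn x).map (ρ0 G h) := by
      rw [List.map_ofFn]
      rfl
    rw [h2, List.map_map]
    have h3 := W_prodD_congr (d := d) (v := v G J) (List.ofFn x)
      (fun b => fun i => ρ G h (dF G hΦ b.1 i)) (fun b => dF G hΦ' (ρ G h b.1))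
      (fun b => ρ_dF_sub_mem G hΦ hΦ' h b.1)
    exact congrArg (fun z => (ρ G h b.1) • z) h3
  exact DFunLike.congr_fun hfg y

end Nat

end Groth.Agent.Lefpen.H721.PsiF
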