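import Groth.Agent.Lefpen.H722.Sys

/-!
# Morphisms of systems on nonempty subsets

A family of bijections `V I → W I` for nonempty `I`, natural in nonempty `I`, induces isomorphisms on cohomology.
-/

set_option autoImplicit false
universe u

namespace Groth.Agent.Lefpen.H721.SysTr

open Groth.Agent.Lefpen.H722.Sys

variable {k : Type u} [CommRing k] {ι : Type}

/-- The truncation of a system: zero on the empty set. -/
def sub (V : Sys k ι) (I : Set ι) : Submodule k (V.M I) where
  carrier := {x | I.Nonempty ∨ x = 0}
  zero_mem' := Or.inr rfl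
  add_mem' := by
    rintro x y (hx | rfl) hy
    · exact Or.inl hx
    · rwa [zero_add]
  smul_mem' := by
    rintro c x (hx | rfl)
    · exact Or.inl hx
    · exact Or.inr (smul_zero c)

/-- The truncation of a system: zero on the empty set. -/
def tr (V : Sys k ι) : Sys k ι where
  M I := sub V I
  res {I J} h :=
    { toFun := fun x => ⟨V.res h x.1, by
        rcases x.2 with hx | hx
        · exact Or.inl (hx.mono h)
        · exact Or.inr (by rw [hx, map_zero])⟩
      map_add' := fun x y => Subtype.ext (map_add (V.res h) x.1 y.1)
      map_smul' := fun c x => Subtype.ext (map_smul (V.res h) c x.1) }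
  res_res h h' x := Subtype.ext (V.res_res h h' x.1)

/-- The inclusion. -/
def incl (V : Sys k ι) : Hom (tr V) V where
  app I := (sub V I).subtype
  nat _ _ := rfl

theorem incl_bijective (V : Sys k ι) (I : Set ι) (hI : I.Nonempty) :
    Function.Bijective ((incl V).app I) :=
  ⟨fun _ _ h => Subtype.ext h, fun x => ⟨⟨x, Or.inl hI⟩, rfl⟩⟩

open Classical in
/-- **Isomorphisms on nonempty subsets.** -/
theorem nonempty_equiv (V W : Sys k ι) (app : ∀ I : Set ι, I.Nonempty → (V.M I →ₗ[k] W.M I))
    (nat : ∀ {I J : Set ι} (hI : I.Nonempty) (h : I ⊆ J) (x : V.M I),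
      app J (hI.mono h) (V.res h x) = W.res h (app I hI x))
    (bij : ∀ (I : Set ι) (hI : I.Nonempty), Function.Bijective (app I hI)) (p : ℕ) :
    Nonempty (H V p ≃ₗ[k] H W p) := by
  let f : Hom (tr V) W :=
    { app := fun I => (if hI : I.Nonempty then app I hI else 0) ∘ₗ (sub V I).subtype
      nat := by
        intro I J h x
        by_cases hI : I.Nonempty
        · have hJ := hI.mono h
          rw [dif_pos hI, dif_pos hJ]
          exact nat hI h x.1
        · have hx : x = 0 := Subtype.ext (x.2.resolve_left hI)
          subst hx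
          rw [map_zero, map_zero, map_zero, map_zero] }
  obtain ⟨e⟩ := nonempty_equiv_of_bijective f (fun I hI => by
    change Function.Bijective ((if hI : I.Nonempty then app I hI else 0) ∘ₗ (sub V I).subtype)
    rw [dif_pos hI]
    exact (bij I hI).comp (incl_bijective V I hI)) p
  obtain ⟨e'⟩ := nonempty_equiv_of_bijective (incl V) (incl_bijective V) p
  exact ⟨e'.symm.trans e⟩

end Groth.Agent.Lefpen.H721.SysTr
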